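import Cfsg.Agent.Lib.FgsD.ThreeSizes.NonDiv
import Cfsg.Agent.S2202
import Cfsg.Agent.S3861

/-!
# Two class sizes, neither dividing the other: the easy configurations
-/

set_option autoImplicit false
set_option linter.style.haveILetI false
set_option linter.unusedSectionVars false

namespace CfsgLib.FgsD.ThreeSizes

open CfsgLib.CharApps.ClassSizes

variable {G : Type*} [Group G] [Finite G]

local notation "C[" g "]" => Subgroup.centralizer ({g} : Set G)
local notation "Z" => Subgroup.center G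

theorem not_two_dvd_iff_odd {n : ℕ} : ¬ 2 ∣ n ↔ Odd n := by
  rw [Nat.odd_iff, Nat.dvd_iff_mod_eq_zero]
  omega

theorem isSolvable_of_normal_sylow_two {H : Type*} [Group H] [Finite H] (P : Sylow 2 H)
    (hP : (P : Subgroup H).Normal) : Group.IsSolvable H := by
  haveI := hP
  haveI := P.2.isNilpotent
  refine Base.isSolvable_of_normal (P : Subgroup H) inferInstance (FT.isSolvable_of_odd ?_)
  rw [← Subgroup.index_eq_card]
  exact not_two_dvd_iff_odd.1 P.not_dvd_index

theorem isSolvable_of_cyclic_sylow_two {H : Type*} [Group H] [Finite H] (hH : 2 ∣ Nat.card H)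
    (P : Sylow 2 H) (hP : IsCyclic P) : Group.IsSolvable H := by
  have hp : (Nat.card H).minFac = 2 := (Nat.minFac_eq_two_iff _).2 hH
  have hc := IsCyclic.isComplement' hp hP
  generalize hK : (MonoidHom.transferSylow P (hP.normalizer_le_centralizer hp)).ker = K at hc
  haveI : K.Normal := hK ▸ MonoidHom.normal_ker _
  have hi : K.index = Nat.card (P : Subgroup H) := hc.symm.index_eq_card
  have hcard : Nat.card K = (P : Subgroup H).index := by
    refine Nat.eq_of_mul_eq_mul_left (Nat.card_pos (α := (P : Subgroup H))) ?_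
    rw [Subgroup.card_mul_index, mul_comm, hc.card_mul]
  haveI : Group.IsNilpotent (H ⧸ K) :=
    (IsPGroup.of_card (p := 2) (n := (Nat.card H).factorization 2)
      (by rw [← Subgroup.index_eq_card, hi, P.card_eq_multiplicity])).isNilpotent
  refine Base.isSolvable_of_normal K (FT.isSolvable_of_odd ?_) inferInstance
  rw [hcard]
  exact not_two_dvd_iff_odd.1 P.not_dvd_index

theorem conj_eq_mul {x i : G} (h : x * i * x⁻¹ * i⁻¹ ∈ Z) :
    x * i * x⁻¹ = i * (x * i * x⁻¹ * i⁻¹) := by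
  rw [(comm_of_mem_center h i).eq]
  group

theorem mem_normalizer_of_fix {x i : G} (h : x * i * x⁻¹ * i⁻¹ ∈ Z) :
    x ∈ Subgroup.normalizer (C[i] : Set G) :=
  C_eq_of_conj_mul_center h (conj_eq_mul h)

theorem sq_mem_of_fix {c i : G} (hi2 : i * i ∈ Z) (h : c * i * c⁻¹ * i⁻¹ ∈ Z) :
    c * c ∈ C[i] := by
  have e := conj_eq_mul h
  generalize hz : c * i * c⁻¹ * i⁻¹ = z at h e
  have hzz : z * z = 1 := by
    have h1 : (c * i * c⁻¹) * (c * i * c⁻¹) = i * i := by
      rw [show c * i * c⁻¹ * (c * i * c⁻¹) = c * (i * i) * c⁻¹ by group,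
        (comm_of_mem_center hi2 c).eq, mul_inv_cancel_right]
    rw [e] at h1
    have h2 : i * z * (i * z) = i * i * (z * z) :=
      Commute.mul_mul_mul_comm (comm_of_mem_center h i).symm i z
    rw [h2] at h1
    exact mul_eq_left.1 h1
  refine mem_C.2 (mul_inv_eq_iff_eq_mul.1 ?_)
  calc c * c * i * (c * c)⁻¹ = c * (c * i * c⁻¹) * c⁻¹ := by group
    _ = c * i * (z * c⁻¹) := by rw [e]; group
    _ = c * i * c⁻¹ * z := by rw [← (comm_of_mem_center h c⁻¹).eq, ← mul_assoc]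
    _ = i := by rw [e, mul_assoc, hzz, mul_one]

theorem transvection_commute {F : Type*} [Field F] [CharP F 2]
    (m T : Matrix.SpecialLinearGroup (Fin 2) F) (hT : (T : Matrix (Fin 2) (Fin 2) F) = !![1, 1; 0, 1])
    (h : Commute m T) : m * m = 1 := by
  have h2 : (2 : F) = 0 := CharTwo.two_eq_zero
  have he : (m : Matrix (Fin 2) (Fin 2) F) * !![1, 1; 0, 1] = !![1, 1; 0, 1] * (m : Matrix (Fin 2) (Fin 2) F) := by
    rw [← hT]
    exact congrArg Subtype.val h.eq
  have hd : (m : Matrix (Fin 2) (Fin 2) F).det = 1 := m.2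
  rw [Matrix.det_fin_two] at hd
  have h00 := congrFun (congrFun he 0) 0
  have h01 := congrFun (congrFun he 0) 1
  simp [Matrix.mul_apply, Fin.sum_univ_two] at h00 h01
  apply Subtype.ext
  show (m : Matrix (Fin 2) (Fin 2) F) * (m : Matrix (Fin 2) (Fin 2) F) = 1
  generalize hM : (m : Matrix (Fin 2) (Fin 2) F) = M at h00 h01 hd
  ext i j
  fin_cases i <;> fin_cases j <;> simp [Matrix.mul_apply, Fin.sum_univ_two] <;> grind

namespace NonDiv

variable {a b : ℕ} (S : NonDiv G a b)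
include S

theorem isSolvable_of_not_mixed_two (hnp : ∀ g : G, g ∉ Z → ∀ q, Has g 2 → Has g q → q = 2) :
    Group.IsSolvable G := by
  by_contra hns
  have h2 : Act G 2 := by
    by_contra h
    exact hns (isSolvable_of_not_act_two h)
  obtain ⟨-, u, hu, huZ⟩ := h2
  have hu2 := has_self Nat.prime_two hu huZ
  obtain ⟨P⟩ : Nonempty (Sylow 2 G) := inferInstance
  obtain ⟨y, hy1, hyo, hyc⟩ : ∃ x : G, x ≠ 1 ∧ Odd (orderOf x) ∧ IsConj x x⁻¹ := by
    by_contra hcon
    push Not at hcon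
    exact hns (isSolvable_of_normal_sylow_two P ((Cfsg.Agent.S3861.result P).1 hcon))
  have hyinv : y⁻¹ ≠ y := fun h => by
    have h1 : orderOf y ∣ 2 := orderOf_dvd_of_pow_eq_one (by
      rw [pow_two]; nth_rewrite 1 [← h]; rw [inv_mul_cancel])
    rcases (Nat.dvd_prime Nat.prime_two).1 h1 with h2 | h2
    · exact hy1 (orderOf_eq_one_iff.1 h2)
    · rw [h2] at hyo; exact absurd hyo (by decide)
  have hyZ : y ∉ Z := fun h => by
    obtain ⟨c, hc⟩ := isConj_iff.1 hyc
    rw [(comm_of_mem_center h c).eq, mul_inv_cancel_right] at hc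
    exact hyinv hc.symm
  obtain ⟨q, hq2, hyq⟩ : ∃ q, q ≠ 2 ∧ Has y q := by
    obtain ⟨q, k, e, hq, he, hz⟩ := exists_noncentral_primary hyZ
    refine ⟨q, fun h2 => ?_, fact_lt_of_noncentral hq (center_le_C y) ⟨e, he⟩
      (mem_C.2 ((Commute.refl y).pow_left k)) hz⟩
    subst h2
    have hco : (orderOf (y ^ k)).Coprime 2 :=
      (Nat.coprime_two_right.2 hyo).coprime_dvd_left (orderOf_pow_dvd' y k)
    have h1 : y ^ k = 1 := IsPEl.eq_one (p := 2) ⟨e, he⟩ hco
    exact hz (h1 ▸ one_mem _)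
  have hne : ∀ v : G, ∀ r, r ≠ 2 → Has v r → idx v ≠ idx u := fun v r hr hv he =>
    hr (hnp u huZ r hu2 (has_of_idx he hv))
  have hidx : ∀ v : G, v ∉ Z → idx v ≠ idx u → idx v = idx y := by
    intro v hv h1
    have h2 := hne y q hq2 hyq
    rcases S.h v hv with ha | ha <;> rcases S.h y hyZ with hb | hb <;>
      rcases S.h u huZ with hc | hc <;> simp_all
  have hhas : ∀ r, r ≠ 2 → Act G r → Has y r := by
    rintro r hr ⟨hrp, v, hv, hvZ⟩
    exact has_of_idx (hidx v hvZ (hne v r hr (has_self hrp hv hvZ))) (has_self hrp hv hvZ)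
  obtain ⟨q', hq'a, hq'2, hq'q⟩ : ∃ r, Act G r ∧ r ≠ 2 ∧ r ≠ q := by
    by_contra hcon
    push Not at hcon
    exact hns (isSolvable_of_two (p := 2) (q := q) fun r hr => or_iff_not_imp_left.2 (hcon r hr))
  have hm : Mixed y := ⟨q', q, hq'q, hhas q' hq'2 hq'a, hyq⟩
  obtain ⟨r, hr, hr2, hrd⟩ : ∃ r, r.Prime ∧ r ≠ 2 ∧ r ∣ idx y := by
    by_contra hcon
    push Not at hcon
    exact hns (isSolvable_of_index Nat.prime_two C[y] (isNilpotent_of_comm (S.abelian hyZ hm))
      fun r hr hd => by_contra fun h => hcon r hr h hd)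
  have hyr := hhas r hr2 (act_of_dvd_idx hr hrd)
  obtain ⟨n, hn, hnr, hnC⟩ := S.exists_normaliser hyZ hm hyr hrd
  obtain ⟨t, ⟨k, hk⟩, ht⟩ := CfsgLib.RealElt.exists_two_element_inverts hyc
  have htN : t ∈ Subgroup.normalizer (C[y] : Set G) := by
    refine mem_normalizer_of_C_eq ?_
    rw [ht]
    ext c
    rw [mem_C, mem_C]
    exact Commute.inv_right_iff
  have htC : t ∉ C[y] := fun h => by
    rw [(mem_C.1 h).eq, mul_inv_cancel_right] at ht
    exact hyinv ht.symm
  obtain ⟨τ, hτt, hτ, hτC, hτ2⟩ := exists_last (n := t) ⟨k, hk⟩ htC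
  exact S.no_involution hyZ hm (Subgroup.zpowers_le.2 htN hτt) hτC hτ2 hτ hr hr2 hn hnC hnr
    (Or.inl hyr)

theorem mem_C_of_fix {j c : G} (hjZ : j ∉ Z) (hm : Mixed j) (hjd : ¬ 2 ∣ idx j) (h2 : Has j 2)
    (hj2 : j * j ∈ Z) (h : c * j * c⁻¹ * j⁻¹ ∈ Z) : c ∈ C[j] := by
  haveI := Fact.mk Nat.prime_two
  have hcN := mem_normalizer_of_fix h
  have hc2 := sq_mem_of_fix hj2 h
  obtain ⟨A, hA, hAn, -⟩ := S.sylow_facts hjZ hm h2
  have hAtop : IsSylIn 2 A ⊤ := hA.of_eq le_top (by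
    rw [Subgroup.card_top]; exact fp_eq_of_not_dvd_idx hjd)
  obtain ⟨x, hx, y, hy, hxy, hx2, hyo, -⟩ := exists_parts Nat.prime_two c
  have hyC : y ∈ C[j] := by
    refine odd_part_mem hyo ?_
    obtain ⟨k, rfl⟩ := Subgroup.mem_zpowers_iff.1 hy
    rw [← (Commute.refl c).mul_zpow k]
    exact zpow_mem hc2 k
  rw [← hxy]
  exact mul_mem (hA.le (IsSylIn.mem_of_normalizes hAtop hx2 (Subgroup.mem_top _)
    (hAn (Subgroup.zpowers_le.2 hcN hx)))) hyC

theorem isSolvable_odd_idx {g : G} (hg : g ∉ Z) (hm : Mixed g) (h2 : Has g 2)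
    (hd : ¬ 2 ∣ idx g) : Group.IsSolvable G := by
  haveI := Fact.mk Nat.prime_two
  have hidx : ∀ j : G, IsPEl 2 j → j ∉ Z → idx j = idx g := by
    intro j hj hjZ
    obtain ⟨e, he⟩ := hj
    obtain ⟨h, hh⟩ := CharApps.ClassSizes.exists_conj_mem (H := C[g]) Nat.prime_two he hd
    rw [← inv_inv h] at hh
    simp only [inv_inv] at hh
    have hZ' : h⁻¹ * j * h⁻¹⁻¹ ∉ Z := fun hz => hjZ (mem_center_conj.1 hz)
    rw [← idx_conj h⁻¹ j]
    show (C[h⁻¹ * j * h⁻¹⁻¹]).index = _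
    rw [S.eq_of_mem hg hm (by rwa [inv_inv]) hZ']
  let π : G →* G ⧸ Z := QuotientGroup.mk' Z
  have hπ : ∀ c : G, π c = 1 ↔ c ∈ Z := fun c => QuotientGroup.eq_one_iff c
  have hlift : ∀ w : G ⧸ Z, orderOf w = 2 → ∃ j, π j = w ∧ IsPEl 2 j ∧ j ∉ Z ∧ j * j ∈ Z ∧
      ∀ c, Commute (π c) w → c ∈ C[j] := by
    intro w hw
    obtain ⟨j, hj, hjp⟩ := (exists_lift π (QuotientGroup.mk'_surjective Z) Nat.prime_two w).1
      ⟨1, by rw [hw, pow_one]⟩
    have hjZ : j ∉ Z := fun h => by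
      rw [← hj, (hπ j).2 h, orderOf_one] at hw
      omega
    have hj2 : j * j ∈ Z := (hπ _).1 (by
      rw [map_mul, hj, ← pow_two, ← hw, pow_orderOf_eq_one])
    have hi := hidx j hjp hjZ
    refine ⟨j, hj, hjp, hjZ, hj2, fun c hc => S.mem_C_of_fix hjZ (mixed_of_idx hi.symm hm)
      (hi ▸ hd) (has_of_idx hi.symm h2) hj2 ((hπ _).1 ?_)⟩
    rw [map_mul, map_mul, map_mul, map_inv, map_inv, hj, hc.eq]
    group
  have heven : 2 ∣ Nat.card (G ⧸ Z) := by
    rw [← Subgroup.index_eq_card, ← Subgroup.relIndex_mul_index (center_le_C g)]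
    exact Dvd.dvd.mul_right h2.dvd_relIndex _
  have hab : ∀ w : G ⧸ Z, orderOf w = 2 →
      IsMulCommutative ↥(Subgroup.centralizer ({w} : Set (G ⧸ Z))) := by
    intro w hw
    obtain ⟨j, hj, hjp, hjZ, hj2, hjc⟩ := hlift w hw
    refine ⟨⟨fun x y => Subtype.ext ?_⟩⟩
    obtain ⟨c, hc⟩ := QuotientGroup.mk'_surjective Z (x : G ⧸ Z)
    obtain ⟨d, hd⟩ := QuotientGroup.mk'_surjective Z (y : G ⧸ Z)
    have hcC := hjc c (by
      show Commute (QuotientGroup.mk' Z c) w
      rw [hc]; exact Subgroup.mem_centralizer_singleton_iff.1 x.2)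
    have hdC := hjc d (by
      show Commute (QuotientGroup.mk' Z d) w
      rw [hd]; exact Subgroup.mem_centralizer_singleton_iff.1 y.2)
    show (x : G ⧸ Z) * (y : G ⧸ Z) = (y : G ⧸ Z) * (x : G ⧸ Z)
    rw [← hc, ← hd]
    exact ((S.abelian hjZ (mixed_of_idx (hidx j hjp hjZ).symm hm) c hcC d hdC).map _).eq
  rcases Cfsg.Agent.S2202.result (even_iff_two_dvd.2 heven) hab with h | h |
    ⟨F, _, _, A, _, _, hF, -, ⟨φ⟩⟩
  · obtain ⟨P⟩ : Nonempty (Sylow 2 (G ⧸ Z)) := inferInstance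
    exact isSolvable_of_center_quotient (isSolvable_of_cyclic_sylow_two heven P (h P))
  · obtain ⟨P⟩ : Nonempty (Sylow 2 (G ⧸ Z)) := inferInstance
    exact isSolvable_of_center_quotient (isSolvable_of_normal_sylow_two P (h P))
  let T : Matrix.SpecialLinearGroup (Fin 2) F := ⟨!![1, 1; 0, 1], by simp [Matrix.det_fin_two]⟩
  let w := φ.symm (T, 1)
  have hT1 : T ≠ 1 := fun h => by
    have h1 := congrFun (congrFun (congrArg Subtype.val h) 0) 1
    simp [T] at h1
  have hw : orderOf w = 2 := by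
    refine orderOf_eq_prime ?_ fun h => hT1 ?_
    · show φ.symm (T, 1) ^ 2 = 1
      rw [← map_pow, pow_two, Prod.mk_mul_mk, one_mul,
        transvection_commute T T rfl (Commute.refl T)]
      exact map_one _
    · exact congrArg Prod.fst (φ.symm.injective (h.trans (map_one φ.symm).symm))
  obtain ⟨j, hj, hjp, hjZ, -, hjc⟩ := hlift w hw
  have hjm := mixed_of_idx (hidx j hjp hjZ).symm hm
  obtain ⟨f, hf2, hf⟩ := hjm.exists_odd
  obtain ⟨v, hv, hvf, hvZ⟩ := hf.exists_mem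
  have hvv : v * v ∉ Z := fun h =>
    hvZ (odd_part_mem (hvf.coprime_orderOf hf.prime Nat.prime_two hf2) h)
  have hcm : Commute (φ (π v)).1 T := by
    have h1 : Commute (φ (π v)) (φ w) := by
      rw [← hj]; exact (((mem_C.1 hv)).map π).map φ
    simp only [w, MulEquiv.apply_symm_apply] at h1
    exact congrArg Prod.fst h1.eq
  have hvcen : ∀ x : G, x * (v * v) * x⁻¹ * (v * v)⁻¹ ∈ Z := by
    intro x
    rw [← hπ]
    have h1 : Commute (φ (π x)) (φ (π (v * v))) := by
      rw [map_mul, map_mul]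
      refine Prod.ext ?_ (mul_comm _ _)
      simp only [Prod.fst_mul]
      rw [transvection_commute _ T rfl hcm, one_mul, mul_one]
    have h2 : Commute (π x) (π (v * v)) := by
      simpa using h1.map φ.symm
    rw [map_mul, map_mul, map_mul, map_inv, map_inv, h2.eq]
    group
  haveI : (C[j]).Normal := by
    refine Subgroup.normalizer_eq_top_iff.1 (eq_top_iff.2 fun x _ => ?_)
    rw [← S.eq_of_mem hjZ hjm (mul_mem hv hv) hvv]
    exact mem_normalizer_of_fix (hvcen x)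
  refine Base.isSolvable_of_normal C[j]
    (Group.isSolvable_of_comm fun x y => Subtype.ext (S.abelian hjZ hjm x x.2 y y.2).eq)
    (FT.isSolvable_of_odd ?_)
  rw [← Subgroup.index_eq_card]
  exact not_two_dvd_iff_odd.1 (by show ¬ 2 ∣ idx j; rw [hidx j hjp hjZ]; exact hd)

end NonDiv

end CfsgLib.FgsD.ThreeSizes
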