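import Cfsg.Agent.Lib.FgsD.ThreeSizes.DivTwo

/-!
# All centres of centralisers of index `a` involve one prime only
-/

set_option autoImplicit false
set_option linter.style.haveILetI false
set_option linter.unusedSectionVars false

namespace CfsgLib.FgsD.ThreeSizes

open CfsgLib.CharApps.ClassSizes

variable {G : Type*} [Group G] [Finite G]

local notation "C[" g "]" => Subgroup.centralizer ({g} : Set G)
local notation "Z" => Subgroup.center G

/-- The centre of each centraliser of index `a` has noncentral elements of one prime order only. -/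
def Single (G : Type*) [Group G] (a : ℕ) : Prop :=
  ∀ x : G, idx x = a → ∀ p q : ℕ, p.Prime → q.Prime →
    (∃ v ∈ Dc x, IsPEl p v ∧ v ∉ Subgroup.center G) →
    (∃ v ∈ Dc x, IsPEl q v ∧ v ∉ Subgroup.center G) → p = q

namespace Div

variable {a b : ℕ} (S : Div G a b) (hs : Single G a)
include S hs

theorem pair {p q : ℕ} (hp : p.Prime) (hq : q.Prime) (hpq : p ≠ q) {u v : G} (hu : IsPEl p u)
    (hv : IsPEl q v) (huZ : u ∉ Z) (hvZ : v ∉ Z) (hc : Commute u v) :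
    idx (u * v) = b ∧ C[u * v] = C[u] ⊓ C[v] := by
  have ho := IsPEl.coprime hp hq hpq hu hv
  have he := C_mul_eq hc ho
  refine ⟨?_, he⟩
  rcases S.h _ (mul_not_mem_center hc ho huZ) with h | h
  · exfalso
    have e1 := S.eq_of_le_a (he.le.trans inf_le_left) h huZ
    have e2 := S.eq_of_le_a (he.le.trans inf_le_right) h hvZ
    refine hpq (hs _ h p q hp hq ⟨u, mem_Dc.2 ⟨e1 ▸ self_mem_C u, fun c hc' => ?_⟩, hu, huZ⟩
      ⟨v, mem_Dc.2 ⟨e2 ▸ self_mem_C v, fun c hc' => ?_⟩, hv, hvZ⟩)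
    · rw [e1] at hc'; exact (mem_C.1 hc').symm
    · rw [e2] at hc'; exact (mem_C.1 hc').symm
  · exact h

theorem triple {p q r : ℕ} (hp : p.Prime) (hq : q.Prime) (hr : r.Prime) (hpq : p ≠ q)
    (hpr : p ≠ r) (hqr : q ≠ r) {u v w : G} (hu : IsPEl p u) (hv : IsPEl q v) (hw : IsPEl r w)
    (huZ : u ∉ Z) (hvZ : v ∉ Z) (hwZ : w ∉ Z) (huv : Commute u v) (huw : Commute u w)
    (hvw : Commute v w) : C[u * v] = C[u * w] ∧ C[u * v] ≤ C[w] := by
  obtain ⟨hb, he⟩ := S.pair hs hp hq hpq hu hv huZ hvZ huv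
  obtain ⟨hb', he'⟩ := S.pair hs hp hr hpr hu hw huZ hwZ huw
  have ho : (orderOf (u * v)).Coprime (orderOf w) :=
    Nat.Coprime.coprime_dvd_left huv.orderOf_mul_dvd_mul_orderOf
      (Nat.Coprime.mul_left (IsPEl.coprime hp hr hpr hu hw) (IsPEl.coprime hq hr hqr hv hw))
  have h2 := C_mul_eq (huw.mul_left hvw) ho
  have h3 := (S.eq_b_of_le (h2.le.trans inf_le_left) hb).2
  have hle : C[u * v] ≤ C[w] := h3.ge.trans (h2.le.trans inf_le_right)
  refine ⟨C_eq_of_le_of_idx ?_ (hb.trans hb'.symm), hle⟩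
  rw [he']
  exact le_inf (he.le.trans inf_le_left) hle

/-- A centraliser of index `b` has noncentral elements for every prime having some. -/
theorem fp_center_lt_b (hthird : ∀ p q : ℕ, ∃ r, Act G r ∧ r ≠ p ∧ r ≠ q) {s : ℕ} (hsA : Act G s)
    {g : G} (hg : idx g = b) : fp Z s < fp C[g] s := by
  obtain ⟨hsp, u, hu, huZ⟩ := hsA
  rcases S.h u huZ with h | h
  · obtain ⟨r, hr, hrs, -⟩ := hthird s s
    obtain ⟨w, hw, hwr, hwZ⟩ := S.exists_in_Ca hr h
    obtain ⟨hb, he⟩ := S.pair hs hsp hr.1 hrs.symm hu hwr huZ hwZ (mem_C.1 hw).symm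
    rw [fp_eq_of_idx (hg.trans hb.symm) s]
    refine fact_lt_of_noncentral hsp (center_le_C _) hu ?_ huZ
    rw [he]
    exact ⟨self_mem_C u, mem_C.2 (mem_C.1 hw).symm⟩
  · rw [fp_eq_of_idx (hg.trans h.symm) s]
    exact fact_lt_of_noncentral hsp (center_le_C _) hu (self_mem_C u) huZ

theorem pair_comm (hthird : ∀ p q : ℕ, ∃ r, Act G r ∧ r ≠ p ∧ r ≠ q) {p q : ℕ} (hp : p.Prime)
    (hq : q.Prime) (hpq : p ≠ q) {u v : G} (hu : IsPEl p u) (hv : IsPEl q v) (huZ : u ∉ Z)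
    (hvZ : v ∉ Z) (hc : Commute u v) :
    ∀ c ∈ C[u * v], ∀ d ∈ C[u * v], Commute c d := by
  obtain ⟨hb, he⟩ := S.pair hs hp hq hpq hu hv huZ hvZ hc
  obtain ⟨r, hr, hrp, hrq⟩ := hthird p q
  obtain ⟨w, hw, hwr, hwZ⟩ :=
    exists_noncentral_of_fact_lt hr.1 (S.fp_center_lt_b hs hthird hr hb)
  rw [he] at hw
  have hwu : Commute u w := (mem_C.1 hw.1).symm
  have hwv : Commute v w := (mem_C.1 hw.2).symm
  have e1 := (S.triple hs hp hq hr.1 hpq hrp.symm hrq.symm hu hv hwr huZ hvZ hwZ hc hwu hwv).1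
  have e2 : C[u * v] = C[v * w] := by
    rw [hc.eq]
    exact (S.triple hs hq hp hr.1 hpq.symm hrq.symm hrp.symm hv hu hwr hvZ huZ hwZ hc.symm hwv hwu).1
  have hcen : C[u * v] ≤ Subgroup.centralizer (C[u * v] : Set G) := by
    refine le_of_primes fun l hl _ e hee hel => Subgroup.mem_centralizer_iff.2 fun c hc' => ?_
    by_cases heZ : e ∈ Z
    · exact (comm_of_mem_center heZ c).eq
    suffices hle : C[u * v] ≤ C[e] from (mem_C.1 (hle hc')).eq
    have he' := hee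
    rw [he] at he'
    have heu : Commute u e := (mem_C.1 he'.1).symm
    have hev : Commute v e := (mem_C.1 he'.2).symm
    have hew : Commute w e := by
      rw [e1, C_mul_eq hwu (IsPEl.coprime hp hr.1 hrp.symm hu hwr)] at hee
      exact (mem_C.1 hee.2).symm
    by_cases hlp : l = p
    · subst hlp
      rw [e2]
      exact (S.triple hs hq hr.1 hl hrq.symm hpq.symm hrp hv hwr hel hvZ hwZ heZ hwv hev hew).2
    by_cases hlq : l = q
    · subst hlq
      rw [e1]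
      exact (S.triple hs hp hr.1 hl hrp.symm hpq hrq hu hwr hel huZ hwZ heZ hwu heu hew).2
    exact (S.triple hs hp hq hl hpq (Ne.symm hlp) (Ne.symm hlq) hu hv hel huZ hvZ heZ hc heu hev).2
  exact fun c hc' d hd => Subgroup.mem_centralizer_iff.1 (hcen hd) c hc'

/-- Two commuting elements of an abelian centraliser of index `b` give it back. -/
theorem pair_eq {K : Subgroup G} {g : G} (hg : idx g = b) (hgK : C[g] = K)
    (hK : ∀ c ∈ K, ∀ d ∈ K, Commute c d) {p q : ℕ} (hp : p.Prime) (hq : q.Prime) (hpq : p ≠ q)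
    {u v : G} (huK : u ∈ K) (hvK : v ∈ K) (hu : IsPEl p u) (hv : IsPEl q v) (huZ : u ∉ Z)
    (hvZ : v ∉ Z) : C[u * v] = K := by
  obtain ⟨hb, he⟩ := S.pair hs hp hq hpq hu hv huZ hvZ (hK u huK v hvK)
  have hle : C[g] ≤ C[u * v] := fun c hc => by
    rw [he]
    exact ⟨mem_C.2 (hK c (hgK.le hc) u huK), mem_C.2 (hK c (hgK.le hc) v hvK)⟩
  exact (C_eq_of_le_of_idx hle (hg.trans hb.symm)).symm.trans hgK

theorem primary_eq {K : Subgroup G} {g : G} (hg : idx g = b) (hgK : C[g] = K)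
    (hK : ∀ c ∈ K, ∀ d ∈ K, Commute c d) {e : G} (heK : e ∈ K) (he : idx e = b) : C[e] = K :=
  (C_eq_of_le_of_idx (fun c hc => mem_C.2 (hK c (hgK.le hc) e heK)) (hg.trans he.symm)).symm.trans hgK

theorem isSolvable_single : Group.IsSolvable G := by
  classical
  by_contra hns
  have hthird : ∀ p q : ℕ, ∃ r, Act G r ∧ r ≠ p ∧ r ≠ q := by
    intro p q
    by_contra hcon
    push Not at hcon
    exact hns (isSolvable_of_two (p := p) (q := q) fun r hr => by
      by_cases h : r = p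
      · exact Or.inl h
      · exact Or.inr (hcon r hr h))
  obtain ⟨ga, hga⟩ := S.hexa
  obtain ⟨gb, hgb⟩ := S.hexb
  let Sig : ℕ → Prop := fun s => fp C[gb] s < fp C[ga] s
  let InA : ℕ → Prop := fun s => ∃ x : G, IsPEl s x ∧ idx x = a ∧ x ∉ Z
  have hsylpart : ∀ {s : ℕ}, Act G s → ∀ {g : G}, idx g = b →
      (∀ c ∈ C[g], ∀ d ∈ C[g], Commute c d) →
      ∃ A, IsSylIn s A C[g] ∧ ∃ v ∈ A, v ∉ Z := by
    intro s hsA g hg hab
    haveI := Fact.mk hsA.1
    obtain ⟨A, hA⟩ := exists_isSylIn s C[g]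
    obtain ⟨v, hv, hvs, hvZ⟩ :=
      exists_noncentral_of_fact_lt hsA.1 (S.fp_center_lt_b hs hthird hsA hg)
    exact ⟨A, hA, v, IsSylIn.mem_of_abelian hA hab hvs hv, hvZ⟩
  have hnotD : ∀ {p r : ℕ}, p.Prime → r.Prime → r ≠ p → ∀ {x w : G}, IsPEl p x → idx x = a → x ∉ Z →
      w ∈ C[x] → IsPEl r w → w ∉ Z → w ∉ Dc x := fun hp hr hrp _ _ hxp hx hxZ _ hwr hwZ hwD =>
    hrp (hs _ hx _ _ hr hp ⟨_, hwD, hwr, hwZ⟩ ⟨_, self_mem_Dc _, hxp, hxZ⟩)
  -- inside `C[x]` at most one other prime divides `b / a`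
  have hrel : ∀ {p r q : ℕ}, p.Prime → Act G r → Act G q → r ≠ p → q ≠ p → r ≠ q →
      InA p → Sig r → Sig q → False := by
    intro p r q hp hr hq hrp hqp hrq ⟨x, hxp, hx, hxZ⟩ hSr hSq
    haveI := Fact.mk hr.1
    haveI := Fact.mk hq.1
    obtain ⟨w, hw, hwr, hwZ⟩ := S.exists_in_Ca hr hx
    have hxw : Commute x w := (mem_C.1 hw).symm
    obtain ⟨hb, he⟩ := S.pair hs hp hr.1 hrp.symm hxp hwr hxZ hwZ hxw
    have hab := S.pair_comm hs hthird hp hr.1 hrp.symm hxp hwr hxZ hwZ hxw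
    obtain ⟨A, hA, hA0⟩ := hsylpart hr hb hab
    obtain ⟨B, hB, hB0⟩ := hsylpart hq hb hab
    have hxK : x ∈ C[x * w] := mem_C.2 ((Commute.refl x).mul_right hxw)
    have hKC : C[x * w] ≤ C[x] := he.le.trans inf_le_left
    have hf : ∀ {s : ℕ}, Act G s → s ≠ p → ∀ {D : Subgroup G}, IsSylIn s D C[x * w] →
        ∀ e ∈ C[x], ∀ v ∈ D, v ∉ Z → Commute e v → e ∈ C[x * w] := by
      intro s hsA hsp D hD e he' v hv hvZ hev
      haveI := Fact.mk hsA.1
      rw [← S.pair_eq hs hb rfl hab hp hsA.1 hsp.symm hxK (hD.le hv) hxp (IsSylIn.isPEl hD hv) hxZ hvZ]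
      exact mem_C.2 ((mem_C.1 he').mul_right hev)
    have hgen : ∀ {s : ℕ}, Act G s → s ≠ p → Sig s → ∀ {D : Subgroup G}, IsSylIn s D C[x * w] →
        (∃ v ∈ D, v ∉ Z) → ∃ g ∈ C[x] ⊓ Subgroup.normalizer (C[x * w] : Set G),
          IsPEl s g ∧ g ∉ C[x * w] := by
      intro s hsA hsp hS D hD ⟨v, hv, hvZ⟩
      haveI := Fact.mk hsA.1
      obtain ⟨g, hgx, hg, hgK, hgD⟩ := IsSylIn.exists_normalizing hD hKC (by
        rw [fp_eq_of_idx (hb.trans hgb.symm) s, fp_eq_of_idx (hx.trans hga.symm) s]; exact hS)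
      refine ⟨g, ⟨hgx, ?_⟩, hg, hgK⟩
      have hv' := (Subgroup.mem_normalizer_iff.1 hgD v).1 hv
      have h1 := S.pair_eq hs hb rfl hab hp hsA.1 hsp.symm hxK (hD.le hv) hxp (IsSylIn.isPEl hD hv) hxZ hvZ
      have h2 := S.pair_eq hs hb rfl hab hp hsA.1 hsp.symm hxK (hD.le hv') hxp (IsSylIn.isPEl hD hv')
        hxZ (fun h => hvZ (mem_center_conj.1 h))
      rw [← h1]
      refine mem_normalizer_of_C_eq ?_
      have hgxe : g * x * g⁻¹ = x := by rw [(mem_C.1 hgx).eq, mul_inv_cancel_right]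
      rw [show g * (x * v) * g⁻¹ = g * x * g⁻¹ * (g * v * g⁻¹) by group, hgxe]
      exact h2.trans h1.symm
    obtain ⟨g, hgN, hg, hgK⟩ := hgen hr hrp hSr hA hA0
    obtain ⟨y, hyN, hy, hyK⟩ := hgen hq hqp hSq hB hB0
    exact key hr.1 hq.1 hrq (N := C[x] ⊓ Subgroup.normalizer (C[x * w] : Set G)) (C := C[x * w])
      inf_le_right hA.le hB.le (fun v hv => hab v (hA.le hv)) (fun v hv => hab v (hB.le hv))
      (inf_le_right.trans (IsSylIn.normalizer_le hA hab))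
      (inf_le_right.trans (IsSylIn.normalizer_le hB hab)) hA.isPGroup hB.isPGroup hA0 hB0
      (fun e he => hf hr hrp hA e he.1) (fun e he _ => hf hq hqp hB e he.1) hgN hg hgK hyN hy hyK
      (fun e he heC v hv hvZ hc =>
        heC (hf hq hqp hB e ((Subgroup.zpowers_le.2 hyN.1) he) v hv hvZ hc))
  -- a prime of class size `a` divides `b / a`
  have hASig : ∀ {p : ℕ}, p.Prime → InA p → Sig p := by
    intro p hp hA
    by_contra hSp
    obtain ⟨r, hr, hrp, hrS⟩ : ∃ r, Act G r ∧ r ≠ p ∧ ¬ Sig r := by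
      by_contra hcon
      push Not at hcon
      obtain ⟨r, hr, hrp, -⟩ := hthird p p
      obtain ⟨q, hq, hqp, hqr⟩ := hthird p r
      exact hrel hp hr hq hrp hqp hqr.symm hA (hcon r hr hrp) (hcon q hq hqp)
    obtain ⟨x, hxp, hx, hxZ⟩ := hA
    haveI := Fact.mk hr.1
    haveI := Fact.mk hp
    obtain ⟨w, hw, hwr, hwZ⟩ := S.exists_in_Ca hr hx
    have hxw : Commute x w := (mem_C.1 hw).symm
    obtain ⟨hb, he⟩ := S.pair hs hp hr.1 hrp.symm hxp hwr hxZ hwZ hxw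
    have hab := S.pair_comm hs hthird hp hr.1 hrp.symm hxp hwr hxZ hwZ hxw
    have hKC : C[x * w] ≤ C[x] := he.le.trans inf_le_left
    have hxK : x ∈ C[x * w] := mem_C.2 ((Commute.refl x).mul_right hxw)
    have hfull : ∀ {s : ℕ}, s.Prime → ¬ Sig s → ∀ {D : Subgroup G}, IsSylIn s D C[x * w] →
        IsSylIn s D C[x] := by
      intro s hsp hS D hD
      refine hD.of_eq (hD.le.trans hKC) (le_antisymm (fp_le hKC s) ?_)
      show fp C[x] s ≤ fp C[x * w] s
      rw [fp_eq_of_idx (hb.trans hgb.symm) s, fp_eq_of_idx (hx.trans hga.symm) s]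
      exact not_lt.1 hS
    obtain ⟨R, hR⟩ := exists_isSylIn r C[x * w]
    obtain ⟨P, hP⟩ := exists_isSylIn p C[x * w]
    have htop : (C[x * w]).subgroupOf C[x] = ⊤ := by
      refine FgsB.eq_top_of_forall_exists_conj_mem fun g => ?_
      obtain ⟨g₁, hg₁, g₂, hg₂, hg12, hg₁p, hg₂o, -⟩ := exists_parts hp (g : G)
      have hgC : ∀ {c : G}, c ∈ Subgroup.zpowers (g : G) → c ∈ C[x] := fun hc =>
        Subgroup.zpowers_le.2 g.2 hc
      suffices hsuff : ∃ h ∈ C[x], h⁻¹ * (g : G) * h ∈ C[x * w] by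
        obtain ⟨h, hh, hmem⟩ := hsuff
        exact ⟨⟨h, hh⟩, Subgroup.mem_subgroupOf.2 (by simpa using hmem)⟩
      by_cases hz : g₂ ∈ Z
      · obtain ⟨h, hh, hmem⟩ := (hfull hp hSp hP).exists_conj_mem hg₁p (hgC hg₁)
        refine ⟨h, hh, ?_⟩
        rw [← hg12, show h⁻¹ * (g₁ * g₂) * h = h⁻¹ * g₁ * (g₂ * h) by group,
          ← (comm_of_mem_center hz h).eq,
          show h⁻¹ * g₁ * (h * g₂) = h⁻¹ * g₁ * h * g₂ by group]
        exact mul_mem (hP.le hmem) (center_le_C _ hz)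
      · obtain ⟨s, k, i, hsp, hord', heZ⟩ := exists_noncentral_primary hz
        have hle : C[g₂] ≤ C[g₂ ^ k] := C_le_C_pow g₂ k
        have hord : orderOf (g₂ ^ k) ∣ orderOf g₂ := orderOf_pow_dvd' g₂ k
        have hes : IsPEl s (g₂ ^ k) := ⟨i, hord'⟩
        generalize g₂ ^ k = e at hle hord hes heZ
        have hge : Commute (g : G) e := by
          refine mem_C.1 (hle ?_)
          rw [← hg12]
          refine mem_C.2 (Commute.mul_left ?_ (Commute.refl g₂))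
          obtain ⟨i, rfl⟩ := Subgroup.mem_zpowers_iff.1 hg₁
          obtain ⟨j, rfl⟩ := Subgroup.mem_zpowers_iff.1 hg₂
          exact (Commute.refl (g : G)).zpow_zpow i j
        have hsnep : s ≠ p := by
          rintro rfl
          exact heZ (IsPEl.eq_one hes (hg₂o.coprime_dvd_left hord) ▸ one_mem _)
        have hex : Commute x e := by
          have hxg2 : x ∈ C[g₂] := mem_C.2 (mem_C.1 (hgC hg₂)).symm
          exact mem_C.1 (hle hxg2)
        obtain ⟨hb', he'⟩ := S.pair hs hp hsp hsnep.symm hxp hes hxZ heZ hex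
        have hab' := S.pair_comm hs hthird hp hsp hsnep.symm hxp hes hxZ heZ hex
        obtain ⟨w', hw', hw'r, hw'Z⟩ :=
          exists_noncentral_of_fact_lt hr.1 (S.fp_center_lt_b hs hthird hr hb')
        have hgK' : (g : G) ∈ C[x * e] := by
          rw [he']; exact ⟨g.2, mem_C.2 hge⟩
        have hgw : Commute (g : G) w' := hab' _ hgK' _ hw'
        rw [he'] at hw'
        obtain ⟨h, hh, hmem⟩ := (hfull hr.1 hrS hR).exists_conj_mem hw'r hw'.1
        refine ⟨h, hh, ?_⟩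
        rw [← S.pair_eq hs hb rfl hab hp hr.1 hrp.symm hxK (hR.le hmem) hxp
          (IsSylIn.isPEl hR hmem) hxZ (fun hz' => hw'Z (by
            simpa using mem_center_conj.1 (show h⁻¹ * w' * h⁻¹⁻¹ ∈ Z by rwa [inv_inv])))]
        refine mem_C.2 (Commute.mul_right (mem_C.1 (mul_mem (mul_mem (inv_mem hh) g.2) hh)) ?_)
        simpa [mul_assoc] using hgw.map (MulAut.conj h⁻¹)
    have hle' : C[x] ≤ C[x * w] := Subgroup.subgroupOf_eq_top.1 htop
    exact S.ne_of_eq_b hb ((show idx (x * w) = idx x from by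
      rw [idx, le_antisymm hKC hle']).trans hx)
  -- two primes without elements of class size `a`
  have hBB : ∀ {r q : ℕ}, Act G r → Act G q → r ≠ q → ¬ InA r → ¬ InA q → False := by
    intro r q hr hq hrq hrA hqA
    haveI := Fact.mk hr.1
    haveI := Fact.mk hq.1
    obtain ⟨u, hu, huZ⟩ := hr.2
    have hub : idx u = b := (S.h u huZ).resolve_left fun h => hrA ⟨u, hu, h, huZ⟩
    obtain ⟨v₀, hv₀, hv₀q, hv₀Z⟩ :=
      exists_noncentral_of_fact_lt hq.1 (S.fp_center_lt_b hs hthird hq hub)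
    have huv : Commute u v₀ := (mem_C.1 hv₀).symm
    obtain ⟨hb, he⟩ := S.pair hs hr.1 hq.1 hrq hu hv₀q huZ hv₀Z huv
    have hab := S.pair_comm hs hthird hr.1 hq.1 hrq hu hv₀q huZ hv₀Z huv
    obtain ⟨A, hA, hA0⟩ := hsylpart hr hb hab
    obtain ⟨B, hB, hB0⟩ := hsylpart hq hb hab
    have hC : ∀ {s : ℕ}, Act G s → ¬ InA s → ∀ {D : Subgroup G}, IsSylIn s D C[u * v₀] →
        ∀ v ∈ D, v ∉ Z → C[v] = C[u * v₀] := by
      intro s hsA hns' D hD v hv hvZ
      haveI := Fact.mk hsA.1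
      exact S.primary_eq hs hb rfl hab (hD.le hv)
        ((S.h v hvZ).resolve_left fun h => hns' ⟨v, IsSylIn.isPEl hD hv, h, hvZ⟩)
    have hgen : ∀ {s : ℕ}, Act G s → ¬ InA s → ∀ {D : Subgroup G}, IsSylIn s D C[u * v₀] →
        (∃ v ∈ D, v ∉ Z) → ∃ g ∈ Subgroup.normalizer (C[u * v₀] : Set G),
          IsPEl s g ∧ g ∉ C[u * v₀] := by
      intro s hsA hns' D hD ⟨v, hv, hvZ⟩
      haveI := Fact.mk hsA.1
      obtain ⟨g, -, hg, hgK, hgD⟩ := IsSylIn.exists_normalizing hD le_top (by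
        unfold fp
        rw [Subgroup.card_top]
        exact fp_lt_of_dvd_idx hsA.1 (hb ▸ S.dvd_b hsA))
      refine ⟨g, ?_, hg, hgK⟩
      have h1 := hC hsA hns' hD v hv hvZ
      rw [← h1]
      exact mem_normalizer_of_C_eq ((hC hsA hns' hD _ ((Subgroup.mem_normalizer_iff.1 hgD v).1 hv)
        (fun h => hvZ (mem_center_conj.1 h))).trans h1.symm)
    obtain ⟨g, hgN, hg, hgK⟩ := hgen hr hrA hA hA0
    obtain ⟨y, hyN, hy, hyK⟩ := hgen hq hqA hB hB0
    exact key hr.1 hq.1 hrq (N := Subgroup.normalizer (C[u * v₀] : Set G)) (C := C[u * v₀]) le_rfl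
      hA.le hB.le (fun v hv => hab v (hA.le hv)) (fun v hv => hab v (hB.le hv))
      (IsSylIn.normalizer_le hA hab) (IsSylIn.normalizer_le hB hab) hA.isPGroup hB.isPGroup hA0 hB0
      (fun e _ v hv hvZ hc => by rw [← hC hr hrA hA v hv hvZ]; exact mem_C.2 hc)
      (fun e _ _ v hv hvZ hc => by rw [← hC hq hqA hB v hv hvZ]; exact mem_C.2 hc)
      hgN hg hgK hyN hy hyK
      (fun e _ heC v hv hvZ hc => heC (by rw [← hC hq hqA hB v hv hvZ]; exact mem_C.2 hc))
  obtain ⟨x, p, hp, hxp, hx, hxZ⟩ := S.exists_primary_a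
  by_cases hone : ∀ s, s.Prime → InA s → s = p
  · obtain ⟨r, hr, hrp, -⟩ := hthird p p
    obtain ⟨q, hq, hqp, hqr⟩ := hthird p r
    exact hBB hr hq hqr.symm (fun h => hrp (hone r hr.1 h)) (fun h => hqp (hone q hq.1 h))
  push Not at hone
  obtain ⟨q, hqP, hqA, hqp⟩ := hone
  obtain ⟨r, hr, hrp, hrq⟩ := hthird p q
  have hpA : InA p := ⟨x, hxp, hx, hxZ⟩
  have hqAct : Act G q := by
    obtain ⟨y, hy, -, hyZ⟩ := hqA
    exact ⟨hqP, y, hy, hyZ⟩
  have hSq := hASig hqP hqA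
  have hrS : ¬ Sig r := fun h => hrel hp hr hqAct hrp hqp hrq hpA h hSq
  have hrA : ¬ InA r := fun h => hrS (hASig hr.1 h)
  haveI := Fact.mk hr.1
  haveI := Fact.mk hqP
  obtain ⟨w, hw, hwr, hwZ⟩ := S.exists_in_Ca hr hx
  have hxw : Commute x w := (mem_C.1 hw).symm
  obtain ⟨hb, he⟩ := S.pair hs hp hr.1 hrp.symm hxp hwr hxZ hwZ hxw
  have hab := S.pair_comm hs hthird hp hr.1 hrp.symm hxp hwr hxZ hwZ hxw
  have hxK : x ∈ C[x * w] := mem_C.2 ((Commute.refl x).mul_right hxw)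
  have hKC : C[x * w] ≤ C[x] := he.le.trans inf_le_left
  obtain ⟨A, hA, hA0⟩ := hsylpart hr hb hab
  obtain ⟨B, hB, hB0⟩ := hsylpart hqAct hb hab
  have hCA : ∀ v ∈ A, v ∉ Z → C[v] = C[x * w] := fun v hv hvZ =>
    S.primary_eq hs hb rfl hab (hA.le hv)
      ((S.h v hvZ).resolve_left fun h => hrA ⟨v, IsSylIn.isPEl hA hv, h, hvZ⟩)
  obtain ⟨g, hgN, hg, hgK⟩ : ∃ g ∈ Subgroup.normalizer (C[x * w] : Set G),
      IsPEl r g ∧ g ∉ C[x * w] := by
    obtain ⟨g, -, hg, hgK, hgA⟩ := IsSylIn.exists_normalizing hA le_top (by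
      unfold fp
      rw [Subgroup.card_top]
      exact fp_lt_of_dvd_idx hr.1 (hb ▸ S.dvd_b hr))
    obtain ⟨v, hv, hvZ⟩ := hA0
    refine ⟨g, ?_, hg, hgK⟩
    rw [← hCA v hv hvZ]
    exact mem_normalizer_of_C_eq ((hCA _ ((Subgroup.mem_normalizer_iff.1 hgA v).1 hv)
      (fun h => hvZ (mem_center_conj.1 h))).trans (hCA v hv hvZ).symm)
  obtain ⟨y, hyC, hy, hyK, hyB⟩ := IsSylIn.exists_normalizing hB hKC (by
    rw [fp_eq_of_idx (hb.trans hgb.symm) q, fp_eq_of_idx (hx.trans hga.symm) q]; exact hSq)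
  have hxv : ∀ v ∈ B, v ∉ Z → C[x * v] = C[x * w] := fun v hv hvZ =>
    S.pair_eq hs hb rfl hab hp hqP hqp.symm hxK (hB.le hv) hxp (IsSylIn.isPEl hB hv) hxZ hvZ
  have hyN : y ∈ Subgroup.normalizer (C[x * w] : Set G) := by
    obtain ⟨v, hv, hvZ⟩ := hB0
    have hv' := (Subgroup.mem_normalizer_iff.1 hyB v).1 hv
    rw [← hxv v hv hvZ]
    refine mem_normalizer_of_C_eq ?_
    rw [show y * (x * v) * y⁻¹ = y * x * y⁻¹ * (y * v * y⁻¹) by group,
      show y * x * y⁻¹ = x by rw [(mem_C.1 hyC).eq, mul_inv_cancel_right]]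
    exact (hxv _ hv' (fun h => hvZ (mem_center_conj.1 h))).trans (hxv v hv hvZ).symm
  refine key hr.1 hqP hrq (N := Subgroup.normalizer (C[x * w] : Set G)) (C := C[x * w]) le_rfl
    hA.le hB.le (fun v hv => hab v (hA.le hv)) (fun v hv => hab v (hB.le hv))
    (IsSylIn.normalizer_le hA hab) (IsSylIn.normalizer_le hB hab) hA.isPGroup hB.isPGroup hA0 hB0
    (fun e _ v hv hvZ hc => by rw [← hCA v hv hvZ]; exact mem_C.2 hc)
    (fun e heN her v hv hvZ hc => ?_) hgN hg hgK hyN hy hyK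
    (fun e he' heC v hv hvZ hc => heC ?_)
  · rcases S.h v hvZ with hva | hvb
    · have hle : C[x * w] ≤ C[v] := fun c hc' => mem_C.2 (hab c hc' v (hB.le hv))
      have hAv : IsSylIn r A C[v] := by
        refine hA.of_eq (hA.le.trans hle) (le_antisymm (fp_le hle r) ?_)
        show fp C[v] r ≤ fp C[x * w] r
        rw [fp_eq_of_idx (hb.trans hgb.symm) r, fp_eq_of_idx (hva.trans hga.symm) r]
        exact not_lt.1 hrS
      exact hA.le (IsSylIn.mem_of_normalizes hAv her (mem_C.2 hc)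
        (IsSylIn.normalizer_le hA hab heN))
    · rw [← S.primary_eq hs hb rfl hab (hB.le hv) hvb]
      exact mem_C.2 hc
  · rw [← hxv v hv hvZ]
    exact mem_C.2 ((mem_C.1 ((Subgroup.zpowers_le.2 hyC) he')).mul_right hc)

end Div

/-- Class sizes `1`, `a`, `b` with `a` properly dividing `b`: solvable. -/
theorem isSolvable_of_div {a b : ℕ} (S : Div G a b) : Group.IsSolvable G := by
  by_cases h : Single G a
  · exact S.isSolvable_single h
  · unfold Single at h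
    push Not at h
    obtain ⟨x, hx, p, q, hp, hq, hv, hw, hpq⟩ := h
    exact S.isSolvable_of_two_in_Dc hx hp hq hpq hv hw

end CfsgLib.FgsD.ThreeSizes
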