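import Cfsg.Agent.Lib.FgsD.ThreeSizes.NonDivEasy
import Cfsg.Agent.S3282

/-!
# Two class sizes, neither dividing the other: the hard configurations
-/

set_option autoImplicit false
set_option linter.style.haveILetI false
set_option linter.unusedSectionVars false

open scoped Pointwise

namespace CfsgLib.FgsD.ThreeSizes

open CfsgLib.CharApps.ClassSizes

variable {G : Type*} [Group G] [Finite G]

local notation "C[" g "]" => Subgroup.centralizer ({g} : Set G)
local notation "Z" => Subgroup.center G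
local notation "N[" g "]" => Subgroup.normalizer (Subgroup.centralizer ({g} : Set G) : Set G)

theorem relIndex_two {H : Type*} [Group H] {D M : Subgroup H} {u : H} (hu : u ∈ M) (huD : u ∉ D)
    (hn : ∀ k ∈ D, u * k * u⁻¹ ∈ D) (hall : ∀ b ∈ M, b ∈ D ∨ u⁻¹ * b ∈ D) :
    D.relIndex M = 2 := by
  show (D.subgroupOf M).index = 2
  rw [Subgroup.index_eq_two_iff]
  refine ⟨⟨u⁻¹, inv_mem hu⟩, fun b => ?_⟩
  simp only [Subgroup.mem_subgroupOf, Subgroup.coe_mul]
  rcases hall b b.2 with h | h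
  · refine Or.inr ⟨h, fun h2 => huD ?_⟩
    have h3 := mul_mem (inv_mem h) h2
    rw [inv_mul_cancel_left] at h3
    simpa using inv_mem h3
  · refine Or.inl ⟨by simpa [mul_assoc] using hn _ h, fun h2 => huD ?_⟩
    simpa [mul_assoc] using mul_mem h2 (inv_mem h)

theorem card_of_relIndex {H : Type*} [Group H] {D M : Subgroup H} (h : D ≤ M) :
    Nat.card D * D.relIndex M = Nat.card M := by
  rw [← Subgroup.relIndex_bot_left, ← Subgroup.relIndex_bot_left M,
    Subgroup.relIndex_mul_relIndex _ _ _ bot_le h]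

theorem mem_sup_two {H : Type*} [Group H] {D : Subgroup H} {u : H}
    (hn : u ∈ Subgroup.normalizer (D : Set H)) (hu2 : u * u ∈ D) :
    ∀ b ∈ D ⊔ Subgroup.zpowers u, b ∈ D ∨ u⁻¹ * b ∈ D := by
  intro b hb
  rw [sup_comm] at hb
  have hb' : b ∈ ((Subgroup.zpowers u : Set H) * (D : Set H)) := by
    rw [← Subgroup.coe_mul_of_left_le_normalizer_right _ _ (Subgroup.zpowers_le.2 hn)]
    exact hb
  obtain ⟨x, hx, k, hk, rfl⟩ := hb'
  obtain ⟨j, rfl⟩ := Subgroup.mem_zpowers_iff.1 hx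
  rcases Int.even_or_odd' j with ⟨i, rfl | rfl⟩
  · left
    refine mul_mem ?_ hk
    rw [zpow_mul, zpow_two]
    exact zpow_mem hu2 i
  · right
    show u⁻¹ * (u ^ (2 * i + 1) * k) ∈ D
    rw [show (2 * i + 1) = 1 + 2 * i by ring, zpow_one_add, mul_assoc, inv_mul_cancel_left]
    refine mul_mem ?_ hk
    rw [zpow_mul, zpow_two]
    exact zpow_mem hu2 i

theorem card_sup_two {H : Type*} [Group H] {D : Subgroup H} {u : H}
    (hn : u ∈ Subgroup.normalizer (D : Set H)) (hu2 : u * u ∈ D) (huD : u ∉ D) :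
    Nat.card (D ⊔ Subgroup.zpowers u : Subgroup H) = 2 * Nat.card D := by
  rw [← card_of_relIndex (le_sup_left : D ≤ D ⊔ Subgroup.zpowers u),
    relIndex_two (Subgroup.mem_sup_right (Subgroup.mem_zpowers u)) huD
      (fun k hk => (Subgroup.mem_normalizer_iff.1 hn k).1 hk) (mem_sup_two hn hu2), mul_comm]

/-- A central involution of a Sylow `2`-subgroup modulo the centre, and the involution outside its
centraliser. -/
structure Frame (i τ : G) : Prop where
  hi : i ∉ Subgroup.center G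
  hip : IsPEl 2 i
  hm : Mixed i
  hi2 : i * i ∈ Subgroup.center G
  hτN : τ ∈ Subgroup.normalizer (Subgroup.centralizer ({i} : Set G) : Set G)
  hτC : τ ∉ Subgroup.centralizer ({i} : Set G)
  hτ2 : τ * τ ∈ Subgroup.center G
  hτp : IsPEl 2 τ
  hfix : τ * i * τ⁻¹ * i⁻¹ ∈ Subgroup.center G
  hN : ∀ n ∈ Subgroup.normalizer (Subgroup.centralizer ({i} : Set G) : Set G),
    n ∈ Subgroup.centralizer ({i} : Set G) ∨ τ⁻¹ * n ∈ Subgroup.centralizer ({i} : Set G)
  hodd : ¬ 2 ∣ (Subgroup.normalizer (Subgroup.centralizer ({i} : Set G) : Set G)).index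

theorem Frame.has_two {i τ : G} (F : Frame i τ) : Has i 2 := has_self Nat.prime_two F.hip F.hi

theorem Frame.idx_eq {i τ : G} (F : Frame i τ) : idx i = 2 * N[i].index := by
  rw [← relIndex_two F.hτN F.hτC (fun k hk => (Subgroup.mem_normalizer_iff.1 F.hτN k).1 hk) F.hN]
  exact (Subgroup.relIndex_mul_index Subgroup.le_normalizer).symm

namespace NonDiv

variable {a b : ℕ} (S : NonDiv G a b)
include S

theorem exists_frame (h2 : Act G 2) (hmix : ∀ v : G, IsPEl 2 v → v ∉ Z → Mixed v)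
    (hdiv : ∀ g : G, g ∉ Z → Mixed g → Has g 2 → 2 ∣ idx g) : ∃ i τ : G, Frame i τ := by
  haveI := Fact.mk Nat.prime_two
  obtain ⟨P⟩ : Nonempty (Sylow 2 G) := inferInstance
  have hPZ : ¬ (P : Subgroup G) ≤ Z := by
    intro hle
    obtain ⟨-, u, ⟨e, he⟩, huZ⟩ := h2
    obtain ⟨g, hg⟩ := CharApps.ClassSizes.exists_conj_mem (H := (P : Subgroup G)) Nat.prime_two he
      P.not_dvd_index
    refine huZ ?_
    simpa using mem_center_conj.1 (show g⁻¹ * u * g⁻¹⁻¹ ∈ Z by rw [inv_inv]; exact hle hg)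
  obtain ⟨i, hiP, hiZ, hi2, hfix⟩ := exists_t P.2 le_rfl
    (fun g hg r hr => mul_mem (mul_mem hg hr) (inv_mem hg)) hPZ
  rw [pow_two] at hi2
  have hip : IsPEl 2 i := IsPEl.of_mem P.2 hiP
  have hm := hmix i hip hiZ
  have hH2 := has_self Nat.prime_two hip hiZ
  have hd := hdiv i hiZ hm hH2
  have hPN : (P : Subgroup G) ≤ N[i] := fun g hg => mem_normalizer_of_fix (hfix g hg)
  have hPfp : fp (P : Subgroup G) 2 = (Nat.card G).factorization 2 := by
    unfold fp
    rw [P.card_eq_multiplicity, Nat.prime_two.factorization_pow, Finsupp.single_eq_same]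
  have hNfp : fp N[i] 2 = (Nat.card G).factorization 2 := by
    refine le_antisymm ?_ (hPfp ▸ fp_le hPN 2)
    exact (fp_le (le_top : N[i] ≤ ⊤) 2).trans_eq (by unfold fp; rw [Subgroup.card_top])
  have hPsyl : IsSylIn 2 (P : Subgroup G) N[i] :=
    ⟨hPN, P.2, by rw [P.card_eq_multiplicity]; congr 1; exact hNfp.symm⟩
  obtain ⟨τ, hτP, hτC⟩ : ∃ τ ∈ (P : Subgroup G), τ ∉ C[i] := by
    by_contra hcon
    push Not at hcon
    have h1 := fp_le (K := C[i]) hcon 2
    have h3 := fp_lt_of_dvd_idx Nat.prime_two hd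
    omega
  have hodd' : ∀ n ∈ N[i], (orderOf n).Coprime 2 → n ∈ C[i] := by
    intro n hn hco
    refine (?_ : Subgroup.zpowers n ≤ C[i]) (Subgroup.mem_zpowers n)
    refine le_of_primes fun q hq _ u hu hue => ?_
    by_cases hq2 : q = 2
    · subst hq2
      obtain ⟨k, rfl⟩ := Subgroup.mem_zpowers_iff.1 hu
      have h1 : n ^ k = 1 := IsPEl.eq_one hue
        (hco.coprime_dvd_left (orderOf_dvd_of_mem_zpowers (Subgroup.zpow_mem_zpowers n k)))
      rw [h1]
      exact one_mem _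
    · by_contra huC
      exact S.no_involution hiZ hm (hPN hτP) hτC (sq_mem_of_fix hi2 (hfix τ hτP))
        (IsPEl.of_mem P.2 hτP) hq hq2 (Subgroup.zpowers_le.2 hn hu) huC hue (Or.inr hH2)
  have hsq : ∀ n ∈ N[i], n * n ∈ C[i] := by
    intro n hn
    obtain ⟨x, hx, y, hy, hxy, hx2, hyo, hc⟩ := exists_parts Nat.prime_two n
    have hxN : x ∈ N[i] := Subgroup.zpowers_le.2 hn hx
    obtain ⟨k, hk, hkx⟩ := IsSylIn.exists_conj_mem hPsyl hx2 hxN
    have hxx : x * x ∈ C[i] := by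
      have h1 := (Subgroup.mem_normalizer_iff.1 hk _).1 (sq_mem_of_fix hi2 (hfix _ hkx))
      simpa [mul_assoc] using h1
    have hyC := hodd' y (Subgroup.zpowers_le.2 hn hy) hyo
    rw [← hxy, Commute.mul_mul_mul_comm hc.symm x y]
    exact mul_mem hxx (mul_mem hyC hyC)
  have hτC2 := hsq τ (hPN hτP)
  have hτ2 : τ * τ ∈ Z := by
    by_contra h
    exact hτC (by
      rw [← S.eq_of_mem hiZ hm hτC2 h]
      exact mem_C.2 ((Commute.refl τ).mul_right (Commute.refl τ)))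
  refine ⟨i, τ, hiZ, hip, hm, hi2, hPN hτP, hτC, hτ2, IsPEl.of_mem P.2 hτP, hfix τ hτP,
    fun n hn => ?_, fun hd2 => P.not_dvd_index (hd2.trans (Subgroup.index_dvd_of_le hPN))⟩
  by_cases h : n ∈ C[i]
  · exact Or.inl h
  · exact Or.inr (S.inv_mem_coset hiZ hm (hPN hτP) hτC hτC2 hn h (hsq n hn))

/-- The number of elements with a given class size. -/
theorem card_class {g : G} (hg : g ∉ Z) (hm : Mixed g) :
    N[g].index * (Nat.card ↥(C[g]) - Nat.card ↥(Z)) = {h : G | idx h = idx g}.ncard := by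
  have hsub : (Z : Set G) ⊆ (C[g] : Set G) := center_le_C g
  have h1 : Nat.card ↥((C[g] : Set G) \ (Z : Set G)) = Nat.card ↥(C[g]) - Nat.card ↥(Z) := by
    rw [Nat.card_coe_set_eq, Set.ncard_sdiff hsub, ← Nat.card_coe_set_eq, ← Nat.card_coe_set_eq]
    rfl
  rw [Subgroup.index_eq_card, ← h1, ← Nat.card_prod, ← Nat.card_coe_set_eq]
  let f : (G ⧸ N[g]) × ↥((C[g] : Set G) \ (Z : Set G)) → ↥{h : G | idx h = idx g} := fun x =>
    ⟨x.1.out * x.2 * x.1.out⁻¹, by
      show idx _ = idx g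
      rw [idx_conj]
      show (C[(x.2 : G)]).index = (C[g]).index
      rw [S.eq_of_mem hg hm x.2.2.1 x.2.2.2]⟩
  refine Nat.card_eq_of_bijective f ⟨?_, ?_⟩
  · rintro ⟨x, k, hk, hkZ⟩ ⟨x', k', hk', hk'Z⟩ hxx
    have he : x.out * k * x.out⁻¹ = x'.out * k' * x'.out⁻¹ := congrArg Subtype.val hxx
    have hw : x'.out⁻¹ * x.out * k * (x'.out⁻¹ * x.out)⁻¹ = k' := by
      calc _ = x'.out⁻¹ * (x.out * k * x.out⁻¹) * x'.out := by group
        _ = k' := by rw [he]; group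
    have hwN : x'.out⁻¹ * x.out ∈ N[g] := by
      have h0 := mem_normalizer_of_C_eq (g := x'.out⁻¹ * x.out) (e := k)
        (by rw [hw, S.eq_of_mem hg hm hk hkZ, S.eq_of_mem hg hm hk' hk'Z])
      rwa [S.eq_of_mem hg hm hk hkZ] at h0
    have hx : x' = x := by
      rw [← QuotientGroup.out_eq' x', ← QuotientGroup.out_eq' x]
      exact QuotientGroup.eq.2 hwN
    subst hx
    have hk : k = k' := by simpa using he
    subst hk
    rfl
  · rintro ⟨h, hh⟩
    have hhZ : h ∉ Z := fun hz =>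
      hg (idx_eq_one_iff.1 ((show idx h = idx g from hh) ▸ idx_eq_one_iff.2 hz))
    obtain ⟨y, hy⟩ := S.conj_class hg hhZ hm hh
    obtain ⟨n, hn⟩ := QuotientGroup.mk_out_eq_mul N[g] y
    have h1 : y⁻¹ * h * y ∈ C[g] := (C_conj y g).1 (hy ▸ self_mem_C h)
    have h2 := (Subgroup.mem_normalizer_iff''.1 n.2 _).1 h1
    refine ⟨⟨QuotientGroup.mk y, (QuotientGroup.mk y : G ⧸ N[g]).out⁻¹ * h *
      (QuotientGroup.mk y : G ⧸ N[g]).out, ?_, fun hz => hhZ ?_⟩, Subtype.ext ?_⟩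
    · rw [hn, show (y * (n : G))⁻¹ * h * (y * n) = (n : G)⁻¹ * (y⁻¹ * h * y) * n by group]
      exact h2
    · generalize (QuotientGroup.mk y : G ⧸ N[g]).out = o at hz
      simpa using mem_center_conj.1 (show o⁻¹ * h * o⁻¹⁻¹ ∈ Z by rwa [inv_inv])
    · show (QuotientGroup.mk y : G ⧸ N[g]).out * ((QuotientGroup.mk y : G ⧸ N[g]).out⁻¹ * h *
        (QuotientGroup.mk y : G ⧸ N[g]).out) * (QuotientGroup.mk y : G ⧸ N[g]).out⁻¹ = h
      group

theorem not_all_mixed {i τ g : G} (F : Frame i τ) (hg : g ∉ Z) (hm : Mixed g)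
    (hne : idx g ≠ idx i) : False := by
  have hA := S.card_class F.hi F.hm
  have hB := S.card_class hg hm
  have huniv : (Set.univ : Set G) = (Z : Set G) ∪ {h : G | idx h = idx i} ∪ {h : G | idx h = idx g} := by
    refine Set.ext fun h => ⟨fun _ => ?_, fun _ => trivial⟩
    by_cases hz : h ∈ Z
    · exact Or.inl (Or.inl hz)
    rcases S.h h hz with e | e <;> rcases S.h i F.hi with e' | e' <;>
      rcases S.h g hg with e'' | e'' <;> first
        | exact absurd (e''.trans e'.symm) hne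
        | exact Or.inl (Or.inr (e.trans e'.symm))
        | exact Or.inr (e.trans e''.symm)
  have hd1 : Disjoint (Z : Set G) {h : G | idx h = idx i} :=
    Set.disjoint_left.2 fun h hz (he : idx h = idx i) =>
      F.hi (idx_eq_one_iff.1 (he ▸ idx_eq_one_iff.2 hz))
  have hd2 : Disjoint ((Z : Set G) ∪ {h : G | idx h = idx i}) {h : G | idx h = idx g} := by
    refine Set.disjoint_left.2 fun h hz (he : idx h = idx g) => ?_
    rcases hz with hz | hz
    · exact hg (idx_eq_one_iff.1 (he ▸ idx_eq_one_iff.2 hz))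
    · exact hne (he.symm.trans hz)
  have htot : Nat.card G = Nat.card ↥(Z) + N[i].index * (Nat.card ↥(C[i]) - Nat.card ↥(Z)) +
      N[g].index * (Nat.card ↥(C[g]) - Nat.card ↥(Z)) := by
    rw [hA, hB, ← Set.ncard_univ, huniv, Set.ncard_union_eq hd2 (Set.toFinite _) (Set.toFinite _),
      Set.ncard_union_eq hd1 (Set.toFinite _) (Set.toFinite _), ← Nat.card_coe_set_eq]
    rfl
  have h1 : Nat.card G = Nat.card ↥(C[i]) * (2 * N[i].index) := by
    rw [← F.idx_eq, card_mul_idx]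
  have h2 : Nat.card G = Nat.card ↥(C[g]) * ((C[g]).relIndex N[g] * N[g].index) := by
    rw [Subgroup.relIndex_mul_index Subgroup.le_normalizer]
    exact (card_mul_idx g).symm
  have hc := F.hm.three_le
  have hc' := hm.three_le
  have hI : 0 < N[i].index := Nat.pos_of_ne_zero Subgroup.index_ne_zero_of_finite
  have hI' : 0 < N[g].index := Nat.pos_of_ne_zero Subgroup.index_ne_zero_of_finite
  have he : 0 < (C[g]).relIndex N[g] := Nat.pos_of_ne_zero Subgroup.index_ne_zero_of_finite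
  have hz : 0 < Nat.card ↥(Z) := Nat.card_pos
  generalize Nat.card ↥(Z) = z at *
  generalize Nat.card ↥(C[i]) = c at *
  generalize Nat.card ↥(C[g]) = c' at *
  generalize N[i].index = I at *
  generalize N[g].index = J at *
  generalize (C[g]).relIndex N[g] = e at *
  generalize Nat.card G = n at *
  obtain ⟨x, rfl⟩ : ∃ x, c = z + x := ⟨c - z, by omega⟩
  obtain ⟨y, rfl⟩ : ∃ y, c' = z + y := ⟨c' - z, by omega⟩
  simp only [Nat.add_sub_cancel_left] at htot
  by_cases he1 : e = 1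
  · subst he1
    nlinarith [Nat.mul_le_mul_left I (show 2 * z ≤ x by omega),
      Nat.mul_le_mul_left J (show 2 * z ≤ y by omega)]
  · nlinarith [Nat.mul_le_mul_right (z + y) (Nat.mul_le_mul_right J (show 2 ≤ e by omega)),
      Nat.mul_le_mul_right z hI, Nat.mul_le_mul_right z hI']

theorem mem_C_of_fix_sq {i τ : G} (F : Frame i τ) {k c : G} (hk : k ∈ C[i]) (hk2 : k * k ∉ Z)
    (h : c * k * c⁻¹ * k⁻¹ ∈ Z) : c ∈ C[i] := by
  have hkZ : k ∉ Z := fun hz => hk2 (mul_mem hz hz)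
  have hcN : c ∈ N[i] := by
    rw [← S.eq_of_mem F.hi F.hm hk hkZ]
    exact mem_normalizer_of_fix h
  refine (F.hN c hcN).resolve_right fun hc => hk2 ?_
  have h1 : c * k * c⁻¹ = τ * k * τ⁻¹ := by
    calc c * k * c⁻¹ = τ * ((τ⁻¹ * c) * k * (τ⁻¹ * c)⁻¹) * τ⁻¹ := by group
      _ = _ := by rw [(S.abelian F.hi F.hm _ hc k hk).eq, mul_inv_cancel_right]
  rw [h1] at h
  have h2 := S.inverts F.hi F.hm F.hτN F.hτC (center_le_C i F.hτ2) hk
  have h3 := mul_mem (inv_mem h) h2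
  rwa [show (τ * k * τ⁻¹ * k⁻¹)⁻¹ * (τ * k * τ⁻¹ * k) = k * k by group] at h3

theorem unique_involution {i τ : G} (F : Frame i τ) (hτm : Mixed τ) {k : G} (hk : k ∈ C[i])
    (hkZ : k ∉ Z) (hk2 : k * k ∈ Z) : i⁻¹ * k ∈ Z := by
  have hτZ : τ ∉ Z := fun h => F.hτC (center_le_C i h)
  have key : ∀ l ∈ C[i], l ∉ Z → l * l ∈ Z → l ∈ N[τ] ∧ l ∉ C[τ] := by
    intro l hl hlZ hl2
    refine ⟨?_, fun h => F.hτC ?_⟩
    · refine mem_normalizer_of_fix ?_
      have h1 := S.inverts F.hi F.hm F.hτN F.hτC (center_le_C i F.hτ2) hl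
      have h2 : τ * l * τ⁻¹ * l⁻¹ ∈ Z := by
        have := mul_mem h1 (inv_mem hl2)
        rwa [show τ * l * τ⁻¹ * l * (l * l)⁻¹ = τ * l * τ⁻¹ * l⁻¹ by group] at this
      rw [show l * τ * l⁻¹ * τ⁻¹ = (τ * l * τ⁻¹ * l⁻¹)⁻¹ by group]
      exact inv_mem h2
    · rw [← S.eq_of_mem F.hi F.hm hl hlZ]
      exact mem_C.2 (mem_C.1 h).symm
  obtain ⟨hiN, hiC⟩ := key i (self_mem_C i) F.hi F.hi2
  obtain ⟨hkN, hkC⟩ := key k hk hkZ hk2
  have h := S.inv_mem_coset hτZ hτm hiN hiC (center_le_C τ F.hi2) hkN hkC (center_le_C τ hk2)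
  by_contra hne
  refine F.hτC ?_
  rw [← S.eq_of_mem F.hi F.hm (mul_mem (inv_mem (self_mem_C i)) hk) hne]
  exact mem_C.2 (mem_C.1 h).symm

theorem bsw_false {i τ : G} (F : Frame i τ) {p : ℕ} (hp : p.Prime) (hp2 : p ≠ 2) (hpA : Act G p)
    (hnp : ¬ Has i p)
    (hl : ∀ l : ℕ, ∀ v : G, l.Prime → l ≠ p → IsPEl l v → v ∉ Z → idx v = idx i) : False := by
  classical
  let π : G →* G ⧸ Z := QuotientGroup.mk' Z
  have hπs : Function.Surjective π := QuotientGroup.mk'_surjective Z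
  have hπ : ∀ c : G, π c = 1 ↔ c ∈ Z := fun c => QuotientGroup.eq_one_iff c
  have hfixπ : ∀ c k : G, Commute (π c) (π k) → c * k * c⁻¹ * k⁻¹ ∈ Z := fun c k h => by
    rw [← hπ, map_mul, map_mul, map_mul, map_inv, map_inv, h.eq]
    group
  have hπfix : ∀ c k : G, c * k * c⁻¹ * k⁻¹ ∈ Z → Commute (π c) (π k) := fun c k h => by
    have h1 := (hπ _).2 h
    simp only [map_mul, map_inv] at h1
    exact mul_inv_eq_iff_eq_mul.1 (mul_inv_eq_one.1 h1)
  have hord : ∀ v : G, v ∉ Z → v * v ∈ Z → orderOf (π v) = 2 := fun v hv hv2 =>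
    orderOf_eq_prime (by rw [pow_two, ← map_mul, (hπ _).2 hv2]) fun h => hv ((hπ _).1 h)
  have hker : ∀ v : G, π.ker ≤ C[v] := fun v => by
    rw [QuotientGroup.ker_mk']; exact center_le_C v
  have hτm : Mixed τ :=
    mixed_of_idx (hl 2 τ Nat.prime_two hp2.symm F.hτp fun h => F.hτC (center_le_C i h)).symm F.hm
  let K := (C[i]).map π
  have hKmem : ∀ c : G, π c ∈ K ↔ c ∈ C[i] := fun c => by
    refine ⟨fun h => ?_, fun h => ⟨c, h, rfl⟩⟩
    obtain ⟨d, hd, hdc⟩ := h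
    have h1 : d⁻¹ * c ∈ Z := (hπ _).1 (by rw [map_mul, map_inv, hdc, inv_mul_cancel])
    simpa using mul_mem hd (center_le_C i h1)
  have hKab : IsMulCommutative ↥K := by
    refine ⟨⟨?_⟩⟩
    rintro ⟨_, x, hx, rfl⟩ ⟨_, y, hy, rfl⟩
    exact Subtype.ext ((S.abelian F.hi F.hm x hx y hy).map π).eq
  have ht := hord i F.hi F.hi2
  have hs := hord τ (fun h => F.hτC (center_le_C i h)) F.hτ2
  have hsK : π τ ∉ K := fun h => F.hτC ((hKmem τ).1 h)
  have hinv : ∀ x ∈ K, π τ * x * (π τ)⁻¹ = x⁻¹ := by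
    rintro _ ⟨k, hk, rfl⟩
    have h1 := (hπ _).2 (S.inverts F.hi F.hm F.hτN F.hτC (center_le_C i F.hτ2) hk)
    simp only [map_mul, map_inv] at h1
    exact eq_inv_of_mul_eq_one_left h1
  have hsn : π τ ∈ Subgroup.normalizer (K : Set (G ⧸ Z)) :=
    Subgroup.mem_normalizer_fintype fun x hx => by rw [hinv x hx]; exact inv_mem hx
  have hst : π τ ∈ Subgroup.centralizer ({π i} : Set (G ⧸ Z)) :=
    Subgroup.mem_centralizer_singleton_iff.2 (hπfix τ i F.hfix).eq
  have hKH : K ≤ Subgroup.centralizer ({π i} : Set (G ⧸ Z)) := by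
    rintro _ ⟨k, hk, rfl⟩
    exact Subgroup.mem_centralizer_singleton_iff.2 ((mem_C.1 hk).map π).eq
  have hCt : ∀ c : G, c ∈ N[i] → π c ∈ K ⊔ Subgroup.zpowers (π τ) := by
    intro c hc
    rcases F.hN c hc with h | h
    · exact Subgroup.mem_sup_left ((hKmem c).2 h)
    · rw [← mul_inv_cancel_left τ c, map_mul]
      exact mul_mem (Subgroup.mem_sup_right (Subgroup.mem_zpowers _))
        (Subgroup.mem_sup_left ((hKmem _).2 h))
  have hH : K ⊔ Subgroup.zpowers (π τ) = Subgroup.centralizer ({π i} : Set (G ⧸ Z)) := by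
    refine le_antisymm (sup_le hKH (Subgroup.zpowers_le.2 hst)) fun y hy => ?_
    obtain ⟨c, rfl⟩ := hπs y
    exact hCt c (mem_normalizer_of_fix
      (hfixπ c i (Subgroup.mem_centralizer_singleton_iff.1 hy)))
  have huniq : ∀ k ∈ C[i], k ∉ Z → k * k ∈ Z → π k = π i := fun k hk hkZ hk2 => by
    have h1 := (hπ _).2 (S.unique_involution F hτm hk hkZ hk2)
    rw [map_mul, map_inv] at h1
    exact (inv_mul_eq_one.1 h1).symm
  have hCK : K ⊓ Subgroup.centralizer ({π τ} : Set (G ⧸ Z)) = Subgroup.zpowers (π i) := by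
    refine le_antisymm ?_ (Subgroup.zpowers_le.2 ⟨(hKmem i).2 (self_mem_C i),
      Subgroup.mem_centralizer_singleton_iff.2 (hπfix τ i F.hfix).symm.eq⟩)
    rintro _ ⟨⟨k, hk, rfl⟩, hc⟩
    have h1 : Commute (π τ) (π k) := (Subgroup.mem_centralizer_singleton_iff.1 hc).symm
    have h2 := hinv _ ((hKmem k).2 hk)
    rw [h1.eq, mul_inv_cancel_right] at h2
    have hk2 : k * k ∈ Z := (hπ _).1 (by
      rw [map_mul]; exact mul_eq_one_iff_eq_inv.2 h2)
    by_cases hkZ : k ∈ Z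
    · rw [(hπ k).2 hkZ]; exact one_mem _
    · rw [huniq k hk hkZ hk2]; exact Subgroup.mem_zpowers _
  have hTI : ∀ g : G ⧸ Z, g ∉ Subgroup.centralizer ({π i} : Set (G ⧸ Z)) →
      K ⊓ K.map (MulAut.conj g).toMonoidHom = ⊥ := by
    intro g hg
    rw [eq_bot_iff]
    rintro _ ⟨⟨k, hk, rfl⟩, _, ⟨k', hk', rfl⟩, hkk⟩
    obtain ⟨h, rfl⟩ := hπs g
    rw [Subgroup.mem_bot, hπ]
    by_contra hkZ
    have he : π (h * k' * h⁻¹) = π k := by
      rw [map_mul, map_mul, map_inv]; exact hkk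
    have hmem : h * k' * h⁻¹ ∈ C[i] := (hKmem _).1 (he ▸ (hKmem k).2 hk)
    have hnZ : h * k' * h⁻¹ ∉ Z := fun hz => hkZ ((hπ _).1 (he ▸ (hπ _).2 hz))
    have hk'Z : k' ∉ Z := fun hz => hnZ (mem_center_conj.2 hz)
    refine hg (hH ▸ hCt h ?_)
    rw [← S.eq_of_mem F.hi F.hm hk' hk'Z]
    exact mem_normalizer_of_C_eq
      ((S.eq_of_mem F.hi F.hm hmem hnZ).trans (S.eq_of_mem F.hi F.hm hk' hk'Z).symm)
  have hto : ∀ w : G ⧸ Z, orderOf w = 2 → IsConj w (π i) := by
    intro w hw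
    obtain ⟨j, hj, hjp⟩ := (exists_lift π hπs Nat.prime_two w).1 ⟨1, by rw [hw, pow_one]⟩
    have hjZ : j ∉ Z := fun h => by rw [← hj, (hπ j).2 h, orderOf_one] at hw; omega
    have hj2 : j * j ∈ Z := (hπ _).1 (by rw [map_mul, hj, ← pow_two, ← hw, pow_orderOf_eq_one])
    obtain ⟨h, hh⟩ := S.conj_class F.hi hjZ F.hm (hl 2 j Nat.prime_two hp2.symm hjp hjZ)
    have h1 : h⁻¹ * j * h ∈ C[i] := (C_conj h i).1 (hh ▸ self_mem_C j)
    have h2 : h⁻¹ * j * h * (h⁻¹ * j * h) ∈ Z := by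
      rw [show h⁻¹ * j * h * (h⁻¹ * j * h) = h⁻¹ * (j * j) * h⁻¹⁻¹ by group]
      exact mem_center_conj.2 hj2
    have h3 : h⁻¹ * j * h ∉ Z := fun hz => hjZ (by
      simpa using mem_center_conj.1 (show h⁻¹ * j * h⁻¹⁻¹ ∈ Z by rwa [inv_inv]))
    refine isConj_iff.2 ⟨π h⁻¹, ?_⟩
    rw [← hj, ← huniq _ h1 h3 h2]
    simp only [map_mul, map_inv, inv_inv]
  obtain ⟨Q, D, hcard, hQC, hDab, hDq, -, -, hX⟩ := Cfsg.Agent.S3282.result (π i) ht K hKab hKH
    ((hKmem i).2 (self_mem_C i)) (π τ) hs hst hsK hH hCK hinv hTI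
    (fun x y hx hy => (hto x hx).trans (hto y hy).symm)
  -- orders
  set m := (Z).relIndex C[i] with hmdef
  set I := N[i].index with hIdef
  have hcardS : Nat.card (G ⧸ Z) = m * (2 * I) := by
    rw [← Subgroup.index_eq_card, ← F.idx_eq, Subgroup.relIndex_mul_index (center_le_C i)]
  have himg : ∀ v : G, idx v = idx i → Nat.card ((C[v]).map π) = m := by
    intro v hv
    have h1 := Subgroup.card_mul_index ((C[v]).map π)
    rw [Subgroup.index_map_eq _ hπs (hker v), hcardS] at h1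
    change _ * idx v = _ at h1
    rw [hv, ← F.idx_eq] at *
    exact Nat.eq_of_mul_eq_mul_right (idx_pos i) h1
  have hCtcard : Nat.card (Subgroup.centralizer ({π i} : Set (G ⧸ Z))) = 2 * m := by
    rw [← hH, card_sup_two hsn (by rw [← map_mul, (hπ _).2 F.hτ2]; exact one_mem _) hsK,
      himg i rfl]
  have hm3 : 3 ≤ m := by
    have h1 := F.hm.three_le
    rw [← card_of_relIndex (center_le_C i), mul_comm 3] at h1
    exact Nat.le_of_mul_le_mul_left h1 Nat.card_pos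
  have hIp : ∀ r : ℕ, r.Prime → r ∣ I → r = p := by
    intro r hr hrI
    by_contra hrp
    have hrd : r ∣ idx i := by rw [F.idx_eq]; exact Dvd.dvd.mul_left hrI 2
    obtain ⟨-, v, hv, hvZ⟩ := act_of_dvd_idx hr hrd
    have h1 := has_of_idx (hl r v hr hrp hv hvZ) (has_self hr hv hvZ)
    have h2 := S.at_most_one F.hi F.hm h1 F.has_two hrd (by rw [F.idx_eq]; exact dvd_mul_right 2 I)
    exact F.hodd (h2 ▸ hrI)
  have hpI : p ∣ I := by
    have h1 : p ∣ idx i := by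
      by_contra h
      exact hnp (fp_center_lt hpA h)
    rw [F.idx_eq] at h1
    exact (hp.dvd_mul.1 h1).resolve_left fun h =>
      hp2 ((Nat.prime_dvd_prime_iff_eq hp Nat.prime_two).1 h)
  have hI3 : 3 ≤ I := by
    have := Nat.le_of_dvd (Nat.pos_of_ne_zero Subgroup.index_ne_zero_of_finite) hpI
    have := hp.two_le
    omega
  have hd1 : 1 ≤ Nat.card D := Nat.card_pos
  -- the prime divisors of the order of `Q`
  have hlift : ∀ x : G ⧸ Z, ∀ l : ℕ, l.Prime → l ≠ p → orderOf x = l →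
      ∃ e h : G, π e = x ∧ IsPEl l e ∧ e ∉ Z ∧ C[e] = C[h * i * h⁻¹] := by
    intro x l hl' hlp hx
    obtain ⟨e, he, hep⟩ := (exists_lift π hπs hl' x).1 ⟨1, by rw [hx, pow_one]⟩
    have heZ : e ∉ Z := fun h => by
      rw [← he, (hπ e).2 h, orderOf_one] at hx
      exact hl'.ne_one hx.symm
    obtain ⟨h, hh⟩ := S.conj_class F.hi heZ F.hm (hl l e hl' hlp hep heZ)
    exact ⟨e, h, he, hep, heZ, hh⟩
  have hQp : ∀ l : ℕ, l.Prime → l ∣ Nat.card Q → l = p := by
    intro l hl' hlQ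
    by_contra hlp
    haveI := Fact.mk hl'
    obtain ⟨x, hx⟩ := exists_prime_orderOf_dvd_card' l hlQ
    obtain ⟨e, h, he, -, -, hh⟩ := hlift (x : G ⧸ Z) l hl' hlp (by rw [Subgroup.orderOf_coe, hx])
    have hx1 : (x : G ⧸ Z) ≠ 1 := fun h => by
      rw [← Subgroup.orderOf_coe, h, orderOf_one] at hx
      exact hl'.ne_one hx.symm
    have h1 : π (h * i * h⁻¹) ∈ Q := by
      rw [← hQC x x.2 hx1, ← he]
      exact Subgroup.mem_centralizer_singleton_iff.2
        ((mem_C.1 (hh ▸ self_mem_C (h * i * h⁻¹))).map π).eq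
    have h2 : orderOf (π (h * i * h⁻¹)) = 2 := by
      rw [map_mul, map_mul, map_inv, ← MulAut.conj_apply, MulEquiv.orderOf_eq, ht]
    have h3 := Subgroup.orderOf_dvd_natCard Q h1
    rw [h2] at h3
    omega
  by_cases hD : D = ⊥
  · have hd : Nat.card D = 1 := by rw [hD, Subgroup.card_bot]
    rw [← hDq, hd, hcardS] at hcard
    nlinarith [Nat.mul_le_mul hm3 hI3]
  -- a prime order element of `D`
  have hdne : Nat.card D ≠ 1 := fun h => hD (Subgroup.card_eq_one.1 h)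
  obtain ⟨l, hl', hld⟩ := Nat.exists_prime_and_dvd hdne
  have hlp : l ≠ p := by
    rintro rfl
    obtain ⟨r, hr, hrQ⟩ := Nat.exists_prime_and_dvd (show Nat.card Q ≠ 1 by omega)
    have h1 : l ∣ 2 * Nat.card D + 1 := by rw [hDq, ← hQp r hr hrQ]; exact hrQ
    exact hl'.ne_one (Nat.dvd_one.1 ((Nat.dvd_add_right (Dvd.dvd.mul_left hld 2)).1 h1))
  haveI := Fact.mk hl'
  obtain ⟨⟨x, hxD⟩, hx⟩ := exists_prime_orderOf_dvd_card' l hld
  rw [Subgroup.orderOf_mk] at hx
  have hx1 : x ≠ 1 := fun h => by rw [h, orderOf_one] at hx; exact hl'.ne_one hx.symm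
  obtain ⟨hXD, u, hu, huD, huinv, hND⟩ := hX (Subgroup.zpowers x) (Subgroup.zpowers_le.2 hxD)
    (fun h => hx1 (by simpa using h))
  have hun : u ∈ Subgroup.normalizer (D : Set (G ⧸ Z)) :=
    Subgroup.mem_normalizer_fintype fun d hd => by rw [huinv d hd]; exact inv_mem hd
  have huu : u * u ∈ D := by
    rw [← pow_two, ← hu, pow_orderOf_eq_one]; exact one_mem _
  have hsupcard := card_sup_two hun huu huD
  have hDC : D ≤ Subgroup.centralizer ({x} : Set (G ⧸ Z)) := fun d hd =>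
    Subgroup.mem_centralizer_singleton_iff.2
      (congrArg Subtype.val (hDab.is_comm.comm (⟨d, hd⟩ : D) ⟨x, hxD⟩))
  have hCN : Subgroup.centralizer ({x} : Set (G ⧸ Z)) ≤ D ⊔ Subgroup.zpowers u := by
    intro c hc
    rw [← hND, ← hXD]
    refine Subgroup.mem_normalizer_fintype fun y hy => ?_
    obtain ⟨k, rfl⟩ := Subgroup.mem_zpowers_iff.1 hy
    rw [((show Commute c x from Subgroup.mem_centralizer_singleton_iff.1 hc).zpow_right k).eq,
      mul_inv_cancel_right]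
    exact Subgroup.zpow_mem_zpowers x k
  have hmd : m = Nat.card D := by
    by_cases hl2 : l = 2
    · subst hl2
      have hux : u ∈ Subgroup.centralizer ({x} : Set (G ⧸ Z)) := by
        refine Subgroup.mem_centralizer_singleton_iff.2 (mul_inv_eq_iff_eq_mul.1 ?_)
        rw [huinv x hxD]
        exact inv_eq_of_mul_eq_one_left (by rw [← pow_two, ← hx, pow_orderOf_eq_one])
      have he : Subgroup.centralizer ({x} : Set (G ⧸ Z)) = D ⊔ Subgroup.zpowers u :=
        le_antisymm hCN (sup_le hDC (Subgroup.zpowers_le.2 hux))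
      obtain ⟨c, hc⟩ := isConj_iff.1 (hto x hx)
      have h1 : idx x = idx (π i) := by rw [← hc, idx_conj]
      have h2 := card_mul_idx x
      rw [h1, ← card_mul_idx (π i), he, hsupcard, hCtcard] at h2
      have h3 := Nat.eq_of_mul_eq_mul_right (idx_pos (π i)) h2
      omega
    · obtain ⟨e, h, he, hep, heZ, hh⟩ := hlift x l hl' hlp hx
      have he' : h⁻¹ * e * h ∈ C[i] := (C_conj h i).1 (hh ▸ self_mem_C e)
      have hee : h⁻¹ * e * h * (h⁻¹ * e * h) ∉ Z := fun hz => heZ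
        (odd_part_mem (hep.coprime_orderOf hl' Nat.prime_two hl2) (by
          have := mem_center_conj.1 (show h⁻¹ * (e * e) * h⁻¹⁻¹ ∈ Z by
            rwa [show h⁻¹ * (e * e) * h⁻¹⁻¹ = h⁻¹ * e * h * (h⁻¹ * e * h) by group])
          exact this))
      have hCe : Subgroup.centralizer ({π (h⁻¹ * e * h)} : Set (G ⧸ Z)) = K := by
        refine le_antisymm (fun y hy => ?_) ?_
        · obtain ⟨c, rfl⟩ := hπs y
          exact (hKmem c).2 (S.mem_C_of_fix_sq F he' hee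
            (hfixπ c _ (Subgroup.mem_centralizer_singleton_iff.1 hy)))
        · rintro _ ⟨k, hk, rfl⟩
          exact Subgroup.mem_centralizer_singleton_iff.2
            ((S.abelian F.hi F.hm k hk _ he').map π).eq
      have hxconj : π (h⁻¹ * e * h) = (π h)⁻¹ * x * (π h)⁻¹⁻¹ := by
        rw [map_mul, map_mul, map_inv, he, inv_inv]
      have h1 := card_mul_idx x
      rw [← idx_conj (π h)⁻¹ x, ← hxconj, ← card_mul_idx (π (h⁻¹ * e * h)), hCe,
        himg i rfl] at h1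
      have h2 : Nat.card (Subgroup.centralizer ({x} : Set (G ⧸ Z))) = m :=
        Nat.eq_of_mul_eq_mul_right (idx_pos _) h1
      rw [← h2]
      refine congrArg (fun H : Subgroup (G ⧸ Z) => Nat.card H) (le_antisymm (fun c hc => ?_) hDC)
      refine (mem_sup_two hun huu c (hCN hc)).resolve_right fun hcu => hl2 ?_
      have h4 : Commute u x := by
        have h5 : u = c * (u⁻¹ * c)⁻¹ := by group
        rw [h5]
        exact (show Commute c x from Subgroup.mem_centralizer_singleton_iff.1 hc).mul_left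
          (show Commute (u⁻¹ * c) x from Subgroup.mem_centralizer_singleton_iff.1 (hDC hcu)).inv_left
      have h6 := huinv x hxD
      rw [h4.eq, mul_inv_cancel_right] at h6
      have h7 : x ^ 2 = 1 := by rw [pow_two]; exact mul_eq_one_iff_eq_inv.2 h6
      exact (Nat.prime_dvd_prime_iff_eq hl' Nat.prime_two).1 (hx ▸ orderOf_dvd_of_pow_eq_one h7)
  -- arithmetic
  rw [← hDq, hcardS, hmd] at hcard
  have hIeq : I = (2 * Nat.card D + 1) * (Nat.card D + 1) := by
    rw [Nat.add_sub_cancel] at hcard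
    refine Nat.eq_of_mul_eq_mul_left (show 0 < 4 * Nat.card D by omega) ?_
    linarith
  obtain ⟨r, hr, hrd⟩ := Nat.exists_prime_and_dvd (show Nat.card D + 1 ≠ 1 by omega)
  have hrp := hIp r hr (hIeq ▸ hrd.mul_left _)
  obtain ⟨r', hr', hrQ⟩ := Nat.exists_prime_and_dvd (show Nat.card Q ≠ 1 by omega)
  have h1 : r ∣ 2 * Nat.card D + 1 := by rw [hDq, hrp, ← hQp r' hr' hrQ]; exact hrQ
  have h2 : r ∣ 2 * (Nat.card D + 1) := Dvd.dvd.mul_left hrd 2
  rw [show 2 * (Nat.card D + 1) = 2 * Nat.card D + 1 + 1 by ring] at h2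
  exact hr.ne_one (Nat.dvd_one.1 ((Nat.dvd_add_right h1).1 h2))

theorem isSolvable : Group.IsSolvable G := by
  by_contra hns
  by_cases hnp : ∀ g : G, g ∉ Z → ∀ q, Has g 2 → Has g q → q = 2
  · exact hns (S.isSolvable_of_not_mixed_two hnp)
  push Not at hnp
  obtain ⟨g₀, hg0, q, h02, h0q, hq2⟩ := hnp
  have hdiv : ∀ g : G, g ∉ Z → Mixed g → Has g 2 → 2 ∣ idx g := fun g hg hm h2 =>
    by_contra fun hd => hns (S.isSolvable_odd_idx hg hm h2 hd)
  have hm0 : Mixed g₀ := ⟨q, 2, hq2, h0q, h02⟩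
  have hd0 := hdiv g₀ hg0 hm0 h02
  obtain ⟨g₁, hg₁, hne⟩ : ∃ g₁, g₁ ∉ Z ∧ idx g₁ ≠ idx g₀ := by
    obtain ⟨x, hx, hxZ⟩ := S.hexa
    obtain ⟨y, hy, hyZ⟩ := S.hexb
    by_cases h : idx x = idx g₀
    · exact ⟨y, hyZ, fun h' => S.hab (by rw [← hx, h, ← h', hy])⟩
    · exact ⟨x, hxZ, h⟩
  have hcases : ∀ v : G, v ∉ Z → idx v = idx g₀ ∨ idx v = idx g₁ := by
    intro v hv
    rcases S.h v hv with e | e <;> rcases S.h g₀ hg0 with e' | e' <;>
      rcases S.h g₁ hg₁ with e'' | e'' <;> simp_all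
  by_cases hm1 : Mixed g₁
  · have hall : ∀ v : G, v ∉ Z → Mixed v := fun v hv =>
      (hcases v hv).elim (fun h => mixed_of_idx h.symm hm0) fun h => mixed_of_idx h.symm hm1
    obtain ⟨i, τ, F⟩ := S.exists_frame h02.act (fun v _ hv => hall v hv) hdiv
    rcases hcases i F.hi with h | h
    · exact S.not_all_mixed F hg₁ hm1 (h ▸ hne)
    · exact S.not_all_mixed F hg0 hm0 (h ▸ hne.symm)
  obtain ⟨p, u, hp, hu, huZ, he⟩ := S.eq_primary hg₁
  have hidxu : idx u = idx g₁ := by show (C[u]).index = (C[g₁]).index; rw [he]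
  have hp1 : Has g₁ p := has_of_idx hidxu (has_self hp hu huZ)
  have honly : ∀ l, Has g₁ l → l = p := fun l hl => by_contra fun h => hm1 ⟨l, p, h, hl, hp1⟩
  have hidx : ∀ l : ℕ, ∀ v : G, l.Prime → l ≠ p → IsPEl l v → v ∉ Z → idx v = idx g₀ :=
    fun l v hl hlp hv hvZ => (hcases v hvZ).resolve_right fun h =>
      hlp (honly l (has_of_idx h (has_self hl hv hvZ)))
  by_cases hp2 : p = 2
  · refine hns (isSolvable_of_index Nat.prime_two C[g₀] (isNilpotent_of_comm (S.abelian hg0 hm0))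
      fun r hr hrd => by_contra fun hr2 => ?_)
    obtain ⟨-, v, hv, hvZ⟩ := act_of_dvd_idx hr (g := g₀) hrd
    exact hr2 (S.at_most_one hg0 hm0 (has_of_idx (hidx r v hr (hp2 ▸ hr2) hv hvZ)
      (has_self hr hv hvZ)) h02 hrd hd0)
  have hnp0 : ¬ Has g₀ p := fun h => by
    have hnd : ¬ p ∣ idx g₀ := fun hd => hp2 (S.at_most_one hg0 hm0 h h02 hd hd0)
    obtain ⟨e, hue⟩ := hu
    obtain ⟨k, hk⟩ := CharApps.ClassSizes.exists_conj_mem (H := C[g₀]) hp hue hnd
    have hkZ : k⁻¹ * u * k⁻¹⁻¹ ∉ Z := fun hz => huZ (mem_center_conj.1 hz)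
    refine hne ?_
    rw [← hidxu, ← idx_conj k⁻¹ u]
    show (C[k⁻¹ * u * k⁻¹⁻¹]).index = _
    rw [S.eq_of_mem hg0 hm0 (by rwa [inv_inv]) hkZ]
  obtain ⟨i, τ, F⟩ := S.exists_frame h02.act
    (fun v hv hvZ => mixed_of_idx (hidx 2 v Nat.prime_two (Ne.symm hp2) hv hvZ).symm hm0) hdiv
  have hi := hidx 2 i Nat.prime_two (Ne.symm hp2) F.hip F.hi
  exact S.bsw_false F hp hp2 hp1.act (fun h => hnp0 (has_of_idx hi h))
    fun l v hl hlp hv hvZ => (hidx l v hl hlp hv hvZ).trans hi.symm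

end NonDiv

end CfsgLib.FgsD.ThreeSizes
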