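import Cfsg.Agent.Lib.FgsD.ThreeSizes.Key

/-!
# Two class sizes, the smaller dividing the larger: basic facts
-/

set_option autoImplicit false
set_option linter.style.haveILetI false
set_option linter.unusedSectionVars false

namespace CfsgLib.FgsD.ThreeSizes

open CfsgLib.CharApps.ClassSizes

variable {G : Type*} [Group G] [Finite G]

local notation "C[" g "]" => Subgroup.centralizer ({g} : Set G)
local notation "Z" => Subgroup.center G

/-- The class sizes are `1`, `a` and `b`, with `a` a proper divisor of `b`. -/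
structure Div (G : Type*) [Group G] (a b : ℕ) : Prop where
  h1 : 1 < a
  hab : a < b
  hdvd : a ∣ b
  h : ∀ g : G, g ∉ Subgroup.center G → idx g = a ∨ idx g = b
  hexa : ∃ g : G, idx g = a
  hexb : ∃ g : G, idx g = b

/-- The elements of the centraliser of `x` centralising all of it. -/
abbrev Dc (x : G) : Subgroup G := C[x] ⊓ Subgroup.centralizer (C[x] : Set G)

theorem Dc_le (x : G) : Dc x ≤ C[x] := inf_le_left

theorem mem_Dc {x v : G} : v ∈ Dc x ↔ v ∈ C[x] ∧ ∀ c ∈ C[x], Commute v c := by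
  rw [Subgroup.mem_inf, Subgroup.mem_centralizer_iff]
  exact ⟨fun h => ⟨h.1, fun c hc => (h.2 c hc).symm⟩, fun h => ⟨h.1, fun c hc => (h.2 c hc).symm⟩⟩

theorem self_mem_Dc (x : G) : x ∈ Dc x :=
  mem_Dc.2 ⟨self_mem_C x, fun _c hc => (mem_C.1 hc).symm⟩

theorem center_le_Dc (x : G) : Z ≤ Dc x := fun z hz =>
  mem_Dc.2 ⟨center_le_C x hz, fun c _ => (comm_of_mem_center hz c).symm⟩

theorem Dc_comm {x u v : G} (hu : u ∈ Dc x) (hv : v ∈ Dc x) : Commute u v :=
  (mem_Dc.1 hu).2 v (Dc_le x hv)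

theorem le_normalizer_Dc (x : G) : C[x] ≤ Subgroup.normalizer (Dc x : Set G) := fun c hc =>
  Subgroup.mem_normalizer_fintype fun v hv => by
    rw [← ((mem_Dc.1 hv).2 c hc).eq, mul_inv_cancel_right]; exact hv

theorem normalizer_C_le_Dc (x : G) :
    Subgroup.normalizer (C[x] : Set G) ≤ Subgroup.normalizer (Dc x : Set G) := fun g hg =>
  Subgroup.mem_normalizer_fintype fun v hv => by
    refine mem_Dc.2 ⟨(Subgroup.mem_normalizer_iff.1 hg v).1 (Dc_le x hv), fun c hc => ?_⟩
    have h := ((mem_Dc.1 hv).2 _ ((Subgroup.mem_normalizer_iff''.1 hg c).1 hc)).map (MulAut.conj g)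
    simpa [mul_assoc] using h

namespace Div

variable {a b : ℕ} (S : Div G a b)
include S

theorem ne_center {g : G} (h : idx g = a ∨ idx g = b) : g ∉ Z := fun hz => by
  rw [idx_eq_one_iff.2 hz] at h
  have := S.h1
  have := S.hab
  omega

theorem ne_of_eq_b {g : G} (h : idx g = b) : ¬ idx g = a := by have := S.hab; omega

theorem dvd_idx {g : G} (hg : g ∉ Z) : a ∣ idx g := by
  rcases S.h g hg with h | h <;> rw [h]
  exact S.hdvd

theorem idx_dvd_b (g : G) : idx g ∣ b := by
  by_cases hg : g ∈ Z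
  · rw [idx_eq_one_iff.2 hg]; exact one_dvd b
  · rcases S.h g hg with h | h <;> rw [h]
    exact S.hdvd

/-- A noncentral element centralised by more than the centraliser of an element of class size
`a` has the same centraliser. -/
theorem eq_of_le_a {g h : G} (hle : C[g] ≤ C[h]) (hg : idx g = a) (hh : h ∉ Z) : C[g] = C[h] := by
  refine C_eq_of_le_of_idx hle ?_
  have hd : idx h ∣ a := hg ▸ idx_dvd_of_le hle
  rcases S.h h hh with h1 | h1
  · omega
  · have := Nat.le_of_dvd (by have := S.h1; omega) hd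
    have := S.hab
    omega

theorem eq_b_of_le {g h : G} (hle : C[g] ≤ C[h]) (hh : idx h = b) : idx g = b ∧ C[g] = C[h] := by
  have hd : b ∣ idx g := hh ▸ idx_dvd_of_le hle
  have he : idx g = b := Nat.dvd_antisymm (S.idx_dvd_b g) hd
  exact ⟨he, C_eq_of_le_of_idx hle (he.trans hh.symm)⟩

theorem mem_Dc_noncentral {x v : G} (hx : idx x = a) (hv : v ∈ Dc x) (hvZ : v ∉ Z) :
    C[v] = C[x] :=
  (S.eq_of_le_a (fun c hc => mem_C.2 ((mem_Dc.1 hv).2 c hc).symm) hx hvZ).symm

/-- A prime with noncentral elements has some of them in every centraliser of index `a`. -/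
theorem fp_center_lt_a {p : ℕ} (hp : Act G p) {g : G} (hg : idx g = a) : fp Z p < fp C[g] p := by
  obtain ⟨hp, u, hu, huZ⟩ := hp
  exact (fact_lt_of_noncentral hp (center_le_C u) hu (self_mem_C u) huZ).trans_le
    (fp_le_of_dvd (hg ▸ S.dvd_idx huZ) p)

theorem exists_in_Ca {p : ℕ} (hp : Act G p) {g : G} (hg : idx g = a) :
    ∃ u ∈ C[g], IsPEl p u ∧ u ∉ Z :=
  exists_noncentral_of_fact_lt hp.1 (S.fp_center_lt_a hp hg)

theorem dvd_b {p : ℕ} (hp : Act G p) : p ∣ b := by
  obtain ⟨g, hg⟩ := exists_dvd_idx hp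
  exact hg.trans (S.idx_dvd_b g)

theorem exists_primary_a : ∃ x : G, ∃ p : ℕ, p.Prime ∧ IsPEl p x ∧ idx x = a ∧ x ∉ Z := by
  obtain ⟨g, hg⟩ := S.hexa
  obtain ⟨p, u, hp, hu, huZ, hle, -⟩ := exists_primary (S.ne_center (Or.inl hg))
  exact ⟨u, p, hp, hu, by rw [idx, ← S.eq_of_le_a hle hg huZ]; exact hg, huZ⟩

end Div

end CfsgLib.FgsD.ThreeSizes
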