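import Cfsg.Agent.Lib.FgsD.ThreeSizes.Div
import Cfsg.Agent.Lib.CharApps.ClassSizes.TwoSizes

/-!
# A centraliser of index `a` whose centre has noncentral elements of two prime orders
-/

set_option autoImplicit false
set_option linter.style.haveILetI false
set_option linter.unusedSectionVars false

namespace CfsgLib.FgsD.ThreeSizes

open CfsgLib.CharApps.ClassSizes

variable {G : Type*} [Group G] [Finite G]

local notation "C[" g "]" => Subgroup.centralizer ({g} : Set G)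
local notation "Z" => Subgroup.center G

theorem centralizer_coe (H : Subgroup G) (g : H) :
    Subgroup.centralizer ({g} : Set H) = (C[(g : G)]).subgroupOf H := by
  ext c
  rw [Subgroup.mem_subgroupOf, Subgroup.mem_centralizer_singleton_iff,
    Subgroup.mem_centralizer_singleton_iff, Subtype.ext_iff]
  rfl

theorem mem_center_C {x : G} (v : ↥(C[x])) : v ∈ Subgroup.center ↥(C[x]) ↔ (v : G) ∈ Dc x := by
  rw [Subgroup.mem_center_iff, mem_Dc]
  exact ⟨fun h => ⟨v.2, fun c hc => (congrArg Subtype.val (h ⟨c, hc⟩) :).symm⟩,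
    fun h c => Subtype.ext (h.2 c c.2).symm⟩

theorem isPEl_coe {p : ℕ} {H : Subgroup G} {u : H} : IsPEl p (u : G) ↔ IsPEl p u := by
  simp [IsPEl]

namespace Div

variable {a b : ℕ} (S : Div G a b)
include S

theorem isSolvable_of_two_in_Dc {x : G} (hx : idx x = a) {p₁ p₂ : ℕ} (hp₁ : p₁.Prime)
    (hp₂ : p₂.Prime) (h12 : p₁ ≠ p₂) (hv₁ : ∃ v ∈ Dc x, IsPEl p₁ v ∧ v ∉ Z)
    (hv₂ : ∃ v ∈ Dc x, IsPEl p₂ v ∧ v ∉ Z) : Group.IsSolvable G := by
  classical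
  by_contra hns
  have hthird : ∀ p q : ℕ, ∃ r, Act G r ∧ r ≠ p ∧ r ≠ q := by
    intro p q
    by_contra hcon
    push Not at hcon
    exact hns (isSolvable_of_two (p := p) (q := q) fun r hr => by
      by_cases h : r = p
      · exact Or.inl h
      · exact Or.inr (hcon r hr h))
  have marker : ∀ l : ℕ, ∃ r, r.Prime ∧ r ≠ l ∧ (r = p₁ ∨ r = p₂) ∧
      ∃ d ∈ Dc x, IsPEl r d ∧ d ∉ Z := by
    intro l
    by_cases h : p₁ = l
    · exact ⟨p₂, hp₂, fun h2 => h12 (h.trans h2.symm), Or.inr rfl, hv₂⟩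
    · exact ⟨p₁, hp₁, h, Or.inl rfl, hv₁⟩
  -- multiplying by a marker
  have hmk : ∀ {l r : ℕ}, l.Prime → r.Prime → r ≠ l → ∀ {w d : G}, w ∈ C[x] → IsPEl l w →
      w ∉ Dc x → d ∈ Dc x → IsPEl r d → d ∉ Z → idx (d * w) = b ∧ C[d * w] = C[x] ⊓ C[w] := by
    intro l r hl hr hne w d hw hwl hwD hd hdr hdZ
    have hc : Commute d w := (mem_Dc.1 hd).2 w hw
    have ho : (orderOf d).Coprime (orderOf w) := IsPEl.coprime hr hl hne hdr hwl
    have he : C[d * w] = C[x] ⊓ C[w] := by rw [C_mul_eq hc ho, S.mem_Dc_noncentral hx hd hdZ]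
    refine ⟨?_, he⟩
    rcases S.h _ (mul_not_mem_center hc ho hdZ) with h | h
    · exfalso
      refine hwD (mem_Dc.2 ⟨hw, fun c hc' => ?_⟩)
      have h2 : C[d * w] = C[x] := C_eq_of_le_of_idx (he.le.trans inf_le_left) (h.trans hx.symm)
      rw [← h2, he] at hc'
      exact (mem_C.1 hc'.2).symm
    · exact h
  have hU : ∀ {l : ℕ}, l.Prime → ∀ {w : G}, w ∈ C[x] → IsPEl l w → w ∉ Dc x →
      ∃ g : G, idx g = b ∧ C[g] = C[x] ⊓ C[w] := by
    intro l hl w hw hwl hwD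
    obtain ⟨r, hr, hne, -, d, hd, hdr, hdZ⟩ := marker l
    exact ⟨_, hmk hl hr hne hw hwl hwD hd hdr hdZ⟩
  have hDU : ∀ {w : G}, w ∈ C[x] → Dc x ≤ C[x] ⊓ C[w] := fun hw v hv =>
    ⟨Dc_le x hv, mem_C.2 ((mem_Dc.1 hv).2 _ hw)⟩
  -- a common centraliser contains outside elements of every such prime
  have hfill : ∀ {l r : ℕ}, l.Prime → r.Prime → ∀ {u w : G}, u ∈ C[x] → IsPEl l u → u ∉ Dc x →
      w ∈ C[x] → IsPEl r w → w ∉ Dc x →
      ∃ w' ∈ C[x] ⊓ C[u], IsPEl r w' ∧ w' ∉ Dc x := by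
    intro l r hl hr u w hu hul huD hw hwr hwD
    obtain ⟨g, hg, hge⟩ := hU hl hu hul huD
    obtain ⟨g', hg', hge'⟩ := hU hr hw hwr hwD
    refine exists_pel_not_mem hr ?_
    rw [← hge, fp_eq_of_idx (hg.trans hg'.symm) r, hge']
    exact fp_lt_of_not_mem hr (hDU hw) (inf_le_left.trans (le_normalizer_Dc x)) hwr
      ⟨hw, self_mem_C w⟩ hwD
  have pairm : ∀ {p q r : ℕ}, p.Prime → q.Prime → r.Prime → p ≠ q → r ≠ p → r ≠ q →
      (∃ d ∈ Dc x, IsPEl r d ∧ d ∉ Z) → ∀ {u v : G}, u ∈ C[x] → IsPEl p u → u ∉ Dc x →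
      v ∈ C[x] → IsPEl q v → v ∉ Dc x → Commute u v → C[x] ⊓ C[u] = C[x] ⊓ C[v] := by
    intro p q r hp hq hr hpq hrp hrq hd u v hu hup huD hv hvq hvD hc
    obtain ⟨d, hd, hdr, hdZ⟩ := hd
    have aux : ∀ {p q : ℕ}, p.Prime → q.Prime → p ≠ q → r ≠ p → r ≠ q → ∀ {u v : G}, u ∈ C[x] →
        IsPEl p u → u ∉ Dc x → v ∈ C[x] → IsPEl q v → Commute u v →
        C[x] ⊓ C[u] ≤ C[v] := by
      intro p q hp hq hpq hrp hrq u v hu hup huD hv hvq hc
      obtain ⟨hb, he⟩ := hmk hp hr hrp hu hup huD hd hdr hdZ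
      have hdu : Commute d u := (mem_Dc.1 hd).2 u hu
      have ho : (orderOf (d * u)).Coprime (orderOf v) :=
        Nat.Coprime.coprime_dvd_left hdu.orderOf_mul_dvd_mul_orderOf
          (Nat.Coprime.mul_left (IsPEl.coprime hr hq hrq hdr hvq) (IsPEl.coprime hp hq hpq hup hvq))
      have h2 := C_mul_eq (((mem_Dc.1 hd).2 v hv).mul_left hc) ho
      have h3 := (S.eq_b_of_le (h2.le.trans inf_le_left) hb).2
      rw [← he, ← h3, h2]
      exact inf_le_right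
    exact le_antisymm (le_inf inf_le_left (aux hp hq hpq hrp hrq hu hup huD hv hvq hc))
      (le_inf inf_le_left (aux hq hp hpq.symm hrq hrp hv hvq hvD hu hup hc.symm))
  have pair : ∀ {p q : ℕ}, p.Prime → q.Prime → p ≠ q → ∀ {u v : G}, u ∈ C[x] → IsPEl p u →
      u ∉ Dc x → v ∈ C[x] → IsPEl q v → v ∉ Dc x → Commute u v →
      C[x] ⊓ C[u] = C[x] ⊓ C[v] := by
    intro p q hp hq hpq u v hu hup huD hv hvq hvD hc
    obtain ⟨r, hr, hrp, hrq⟩ := hthird p q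
    by_cases hrD : ∃ d ∈ Dc x, IsPEl r d ∧ d ∉ Z
    · exact pairm hp hq hr.1 hpq hrp hrq hrD hu hup huD hv hvq hvD hc
    obtain ⟨w₀, hw₀, hw₀r, hw₀Z⟩ := S.exists_in_Ca hr hx
    have hw₀D : w₀ ∉ Dc x := fun h => hrD ⟨w₀, h, hw₀r, hw₀Z⟩
    obtain ⟨w, hw, hwr, hwD⟩ := hfill hp hr.1 hu hup huD hw₀ hw₀r hw₀D
    have hπ : ∀ l, ∃ r', r'.Prime ∧ r' ≠ r ∧ r' ≠ l ∧ ∃ d ∈ Dc x, IsPEl r' d ∧ d ∉ Z := by
      intro l
      obtain ⟨r', hr', hne, hr12, hd'⟩ := marker l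
      exact ⟨r', hr', fun he => hrD (he ▸ hd'), hne, hd'⟩
    obtain ⟨r', hr', h1, h2, hd'⟩ := hπ p
    have e1 := pairm hr.1 hp hr' hrp h1 h2 hd' hw.1 hwr hwD hu hup huD (mem_C.1 hw.2)
    obtain ⟨r', hr', h1, h2, hd'⟩ := hπ q
    have hwv : Commute v w := mem_C.1 (e1.ge ⟨hv, mem_C.2 hc.symm⟩).2
    have e2 := pairm hr.1 hq hr' hrq h1 h2 hd' hw.1 hwr hwD hv hvq hvD hwv.symm
    exact e1.symm.trans e2
  -- outside the centre of `C[x]` only one prime occurs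
  have hone : ∀ {p q : ℕ}, p.Prime → q.Prime → p ≠ q → (∃ u ∈ C[x], IsPEl p u ∧ u ∉ Dc x) →
      (∃ v ∈ C[x], IsPEl q v ∧ v ∉ Dc x) → False := by
    intro p q hp hq hpq ⟨u₀, hu₀, hu₀p, hu₀D⟩ ⟨v₀, hv₀, hv₀q, hv₀D⟩
    have hUab : ∀ {l : ℕ}, l.Prime → ∀ {u : G}, u ∈ C[x] → IsPEl l u → u ∉ Dc x →
        ∀ c ∈ C[x] ⊓ C[u], ∀ d ∈ C[x] ⊓ C[u], Commute c d := by
      intro l hl u hu hul huD
      obtain ⟨r, hr, hrl, w₀, hw₀, hw₀r, hw₀D⟩ :
          ∃ r, r.Prime ∧ r ≠ l ∧ ∃ w₀ ∈ C[x], IsPEl r w₀ ∧ w₀ ∉ Dc x := by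
        by_cases h : p = l
        · exact ⟨q, hq, fun h2 => hpq (h.trans h2.symm), v₀, hv₀, hv₀q, hv₀D⟩
        · exact ⟨p, hp, h, u₀, hu₀, hu₀p, hu₀D⟩
      obtain ⟨w, hw, hwr, hwD⟩ := hfill hl hr hu hul huD hw₀ hw₀r hw₀D
      have hUw := pair hr hl hrl hw.1 hwr hwD hu hul huD (mem_C.1 hw.2)
      have hcen : C[x] ⊓ C[u] ≤ Subgroup.centralizer ((C[x] ⊓ C[u] : Subgroup G) : Set G) := by
        refine le_of_primes fun m hm _ e he hem => Subgroup.mem_centralizer_iff.2 fun c hc => ?_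
        by_cases heD : e ∈ Dc x
        · exact (((mem_Dc.1 heD).2 c hc.1).symm).eq
        have hUe : C[x] ⊓ C[e] = C[x] ⊓ C[u] := by
          by_cases hml : m = l
          · subst hml
            rw [← hUw]
            exact pair hm hr hrl.symm he.1 hem heD hw.1 hwr hwD
              (mem_C.1 (hUw.ge he).2)
          · exact pair hm hl hml he.1 hem heD hu hul huD (mem_C.1 he.2)
        exact (mem_C.1 (hUe.ge hc).2).eq
      exact fun c hc d hd => (Subgroup.mem_centralizer_iff.1 (hcen hd) c hc)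
    have hk : b / a * a = b := Nat.div_mul_cancel S.hdvd
    have hTwo : Two ↥(C[x]) (b / a) := by
      refine ⟨?_, fun g hg => ?_, ⟨⟨u₀, hu₀⟩, fun h => hu₀D ((mem_center_C _).1 h)⟩⟩
      · by_contra hcon
        have hle : b / a ≤ 1 := not_lt.1 hcon
        have := Nat.mul_le_mul_right a hle
        have := S.hab
        omega
      obtain ⟨l, u, hl, hul, huZ, hle, hug⟩ := exists_primary hg
      have huD : (u : G) ∉ Dc x := fun h => huZ ((mem_center_C u).2 h)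
      have hcg : Commute (g : G) (u : G) := (congrArg Subtype.val hug.eq.symm :)
      obtain ⟨g', hg', hge⟩ := hU hl u.2 (isPEl_coe.2 hul) huD
      have hgU : (g : G) ∈ C[x] ⊓ C[(u : G)] := ⟨g.2, mem_C.2 hcg⟩
      have heq : C[x] ⊓ C[(g : G)] = C[g'] := by
        rw [hge]
        refine le_antisymm (fun c hc => ?_) (fun c hc => ⟨hc.1, mem_C.2 ?_⟩)
        · refine ⟨hc.1, mem_C.2 ?_⟩
          have h2 : (⟨c, hc.1⟩ : ↥(C[x])) ∈ Subgroup.centralizer ({g} : Set ↥(C[x])) :=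
            mem_C.2 (Subtype.ext (mem_C.1 hc.2).eq)
          exact (congrArg Subtype.val (mem_C.1 (hle h2)).eq :)
        · exact hUab hl u.2 (isPEl_coe.2 hul) huD c hc _ hgU
      have h3 : idx g = (C[g']).relIndex C[x] := by
        rw [← heq]
        show (Subgroup.centralizer ({g} : Set ↥(C[x]))).index = _
        rw [centralizer_coe, inf_comm, Subgroup.inf_relIndex_right]
        rfl
      have h4 : (C[g']).relIndex C[x] * idx x = idx g' :=
        Subgroup.relIndex_mul_index (heq ▸ inf_le_left)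
      rw [← h3, hx, hg'] at h4
      exact Nat.eq_of_mul_eq_mul_right (by have := S.h1; omega) (h4.trans hk.symm)
    obtain ⟨e₁, he₁⟩ := hu₀p
    obtain ⟨e₂, he₂⟩ := hv₀q
    exact hTwo.one_prime hp hq hpq
      ⟨⟨u₀, hu₀⟩, ⟨e₁, by rwa [Subgroup.orderOf_mk]⟩, fun h => hu₀D ((mem_center_C _).1 h)⟩
      ⟨⟨v₀, hv₀⟩, ⟨e₂, by rwa [Subgroup.orderOf_mk]⟩, fun h => hv₀D ((mem_center_C _).1 h)⟩
  obtain ⟨t, ht, htD⟩ : ∃ t : ℕ, t.Prime ∧ ∀ {l : ℕ}, l.Prime → l ≠ t →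
      ∀ w ∈ C[x], IsPEl l w → w ∈ Dc x := by
    by_cases h : ∃ t, t.Prime ∧ ∃ u ∈ C[x], IsPEl t u ∧ u ∉ Dc x
    · obtain ⟨t, ht, hu⟩ := h
      exact ⟨t, ht, fun hl hne w hw hwl => by_contra fun hwD => hone hl ht hne ⟨w, hw, hwl, hwD⟩ hu⟩
    · push Not at h
      exact ⟨p₁, hp₁, fun hl _ w hw hwl => h _ hl w hw hwl⟩
  haveI := Fact.mk ht
  -- `C[x]` is nilpotent
  haveI hnorm : ((Dc x).subgroupOf C[x]).Normal :=
    Subgroup.normal_subgroupOf_of_le_normalizer (le_normalizer_Dc x)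
  have hrest : ∀ c ∈ C[x], ∀ e ∈ Subgroup.zpowers c, (orderOf e).Coprime t → e ∈ Dc x := by
    intro c hc e he heo
    refine le_of_primes (H := Subgroup.zpowers e) (fun m hm _ u hu hum => ?_) (Subgroup.mem_zpowers e)
    by_cases hmt : m = t
    · subst hmt
      rw [IsPEl.eq_one hum (heo.coprime_dvd_left (orderOf_dvd_of_mem_zpowers hu))]
      exact one_mem _
    · exact htD hm hmt u (Subgroup.zpowers_le.2 (Subgroup.zpowers_le.2 hc he) hu) hum
  have hq : IsPGroup t (↥(C[x]) ⧸ (Dc x).subgroupOf C[x]) := by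
    intro y
    obtain ⟨⟨c, hc⟩, rfl⟩ := QuotientGroup.mk_surjective y
    obtain ⟨a₁, ha₁, b₁, hb₁, hab, ⟨i, hi⟩, hb₁o, hcm⟩ := exists_parts ht c
    refine ⟨i, ?_⟩
    rw [← QuotientGroup.mk_pow, QuotientGroup.eq_one_iff, Subgroup.mem_subgroupOf,
      SubgroupClass.coe_pow]
    show c ^ t ^ i ∈ Dc x
    rw [show c ^ t ^ i = (a₁ * b₁) ^ t ^ i by rw [hab], hcm.mul_pow,
      show a₁ ^ t ^ i = 1 by rw [← hi, pow_orderOf_eq_one], one_mul]
    exact pow_mem (hrest c hc b₁ hb₁ hb₁o) _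
  haveI := hq.isNilpotent
  haveI hnil : Group.IsNilpotent ↥(C[x]) :=
    Subgroup.isNilpotent_of_ker_le_center (QuotientGroup.mk' ((Dc x).subgroupOf C[x])) (by
      rw [QuotientGroup.ker_mk']
      intro v hv
      exact (mem_center_C v).2 hv)
  -- the primes of the centre dividing `a` act on `C[x]`
  have hgen : ∀ {r : ℕ}, Act G r → r ∣ a → (∃ v ∈ Dc x, IsPEl r v ∧ v ∉ Z) →
      ∃ g ∈ Subgroup.normalizer (C[x] : Set G), IsPEl r g ∧ g ∉ C[x] := by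
    intro r hr hra ⟨v, hvD, hvr, hvZ⟩
    haveI := Fact.mk hr.1
    obtain ⟨R, hR⟩ := exists_isSylIn r C[x]
    have hvR : v ∈ R := IsSylIn.mem_of_commute hR hvr (Dc_le x hvD)
      fun s hs => (mem_Dc.1 hvD).2 s (hR.le hs)
    obtain ⟨g, -, hgr, hgC, hgR⟩ := IsSylIn.exists_normalizing hR le_top (by
      unfold fp
      rw [Subgroup.card_top]
      exact fp_lt_of_dvd_idx hr.1 (hx ▸ hra))
    refine ⟨g, ?_, hgr, hgC⟩
    have hv' : g * v * g⁻¹ ∈ R := (Subgroup.mem_normalizer_iff.1 hgR v).1 hvR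
    have hv'D : g * v * g⁻¹ ∈ Dc x := by
      by_cases hrt : r = t
      · subst hrt
        obtain ⟨T, hT⟩ := CharApps.ClassSizes.exists_isSylIn r C[x]
        have hRn : (R.subgroupOf C[x]).Normal := by
          have hnd : ¬ r ∣ (R.subgroupOf C[x]).index := hR.not_dvd_relIndex
          exact ((Group.isNilpotent_of_finite_tfae.out 0 3 rfl rfl).1 hnil) r inferInstance
            ((hR.isPGroup.comap_of_injective _ (C[x]).subtype_injective).toSylow hnd)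
        refine mem_Dc.2 ⟨hR.le hv', fun c hc => ?_⟩
        obtain ⟨c₁, hc₁, c₂, hc₂, hcc, hc₁t, hc₂o, -⟩ := exists_parts hr.1 c
        have hc₂D := hrest c hc c₂ hc₂ hc₂o
        have hc₁C : c₁ ∈ C[x] := Subgroup.zpowers_le.2 hc hc₁
        have hc₁R : c₁ ∈ R := IsSylIn.mem_of_normalizes hR hc₁t hc₁C
          (Subgroup.mem_normalizer_fintype fun s hs => by
            have := hRn.conj_mem ⟨s, hR.le hs⟩ hs ⟨c₁, hc₁C⟩
            exact this)
        have h1 : Commute (g * v * g⁻¹) c₁ := by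
          have h := ((mem_Dc.1 hvD).2 _ (hR.le ((Subgroup.mem_normalizer_iff''.1 hgR c₁).1 hc₁R))).map
            (MulAut.conj g)
          simpa [mul_assoc] using h
        rw [← hcc]
        exact h1.mul_right ((mem_Dc.1 hc₂D).2 _ (hR.le hv')).symm
      · exact htD hr.1 hrt _ (hR.le hv') (IsSylIn.isPEl hR hv')
    have hnZ : g * v * g⁻¹ ∉ Z := fun h => hvZ (mem_center_conj.1 h)
    rw [← S.mem_Dc_noncentral hx hvD hvZ]
    exact mem_normalizer_of_C_eq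
      ((S.mem_Dc_noncentral hx hv'D hnZ).trans (S.mem_Dc_noncentral hx hvD hvZ).symm)
  have huniq : ∀ {r q : ℕ}, Act G r → Act G q → r ∣ a → q ∣ a →
      (∃ v ∈ Dc x, IsPEl r v ∧ v ∉ Z) → (∃ v ∈ Dc x, IsPEl q v ∧ v ∉ Z) → r = q := by
    intro r q hr hq hra hqa hvr hvq
    by_contra hne
    haveI := Fact.mk hr.1
    haveI := Fact.mk hq.1
    obtain ⟨g, hgN, hg, hgC⟩ := hgen hr hra hvr
    obtain ⟨y, hyN, hy, hyC⟩ := hgen hq hqa hvq
    obtain ⟨A, hA⟩ := exists_isSylIn r (Dc x)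
    obtain ⟨B, hB⟩ := exists_isSylIn q (Dc x)
    have hab' : ∀ c ∈ Dc x, ∀ d ∈ Dc x, Commute c d := fun c hc d hd => Dc_comm hc hd
    obtain ⟨v, hv, hvr', hvZ⟩ := hvr
    obtain ⟨w, hw, hwq', hwZ⟩ := hvq
    have hf : ∀ D : Subgroup G, D ≤ Dc x → ∀ e : G, ∀ v ∈ D, v ∉ Z → Commute e v → e ∈ C[x] :=
      fun D hD e v hv hvZ hc => by
        rw [← S.mem_Dc_noncentral hx (hD hv) hvZ]; exact mem_C.2 hc
    refine key hr.1 hq.1 hne (N := Subgroup.normalizer (C[x] : Set G)) (C := C[x]) (A := A) (B := B)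
      le_rfl (hA.le.trans (Dc_le x)) (hB.le.trans (Dc_le x))
      (fun v hv => (mem_Dc.1 (hA.le hv)).2) (fun v hv => (mem_Dc.1 (hB.le hv)).2)
      ((normalizer_C_le_Dc x).trans (IsSylIn.normalizer_le hA hab'))
      ((normalizer_C_le_Dc x).trans (IsSylIn.normalizer_le hB hab'))
      hA.isPGroup hB.isPGroup ⟨v, IsSylIn.mem_of_abelian hA hab' hvr' hv, hvZ⟩
      ⟨w, IsSylIn.mem_of_abelian hB hab' hwq' hw, hwZ⟩
      (fun e _ => hf A hA.le e) (fun e _ _ => hf B hB.le e) hgN hg hgC hyN hy hyC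
      (fun e _ heC v hv hvZ hc => heC (hf B hB.le e v hv hvZ hc))
  have hinD : ∀ {r : ℕ}, Act G r → r ≠ t → ∃ v ∈ Dc x, IsPEl r v ∧ v ∉ Z := by
    intro r hr hrt
    obtain ⟨v, hv, hvr, hvZ⟩ := S.exists_in_Ca hr hx
    exact ⟨v, htD hr.1 hrt v hv hvr, hvr, hvZ⟩
  by_cases hcase : t ∣ a ∧ ¬ ∃ v ∈ Dc x, IsPEl t v ∧ v ∉ Z
  · obtain ⟨hta, htπ⟩ := hcase
    have hActt : Act G t := act_of_dvd_idx ht (hx ▸ hta)
    obtain ⟨w₀, hw₀, hw₀t, hw₀Z⟩ := S.exists_in_Ca hActt hx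
    have hw₀D : w₀ ∉ Dc x := fun h => htπ ⟨w₀, h, hw₀t, hw₀Z⟩
    obtain ⟨g, hg, hge⟩ := hU ht hw₀ hw₀t hw₀D
    have hall : ∀ s, Act G s → s ≠ t → s ∣ a := by
      intro s hs hst
      by_contra hsa
      haveI := Fact.mk hs.1
      obtain ⟨R, hR⟩ := exists_isSylIn s C[x]
      have hle : R ≤ C[g] := by
        rw [hge]
        exact fun v hv => hDU hw₀ (htD hs.1 hst v (hR.le hv) (IsSylIn.isPEl hR hv))
      have h1 := fp_le hle s
      have h2 : fp R s = fp C[x] s := by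
        unfold fp; rw [hR.card, hs.1.factorization_pow, Finsupp.single_eq_same]
      have h3 : fp C[g] s < (Nat.card G).factorization s :=
        fp_lt_of_dvd_idx hs.1 (hg ▸ S.dvd_b hs)
      rw [h2, fp_eq_of_not_dvd_idx (hx ▸ hsa)] at h1
      omega
    obtain ⟨r, hr, hrt, -⟩ := hthird t t
    obtain ⟨s, hs, hst, hsr⟩ := hthird t r
    exact hsr (huniq hs hr (hall s hs hst) (hall r hr hrt) (hinD hs hst) (hinD hr hrt))
  · push Not at hcase
    have hpi : ∀ r, r.Prime → r ∣ a → Act G r ∧ ∃ v ∈ Dc x, IsPEl r v ∧ v ∉ Z := by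
      intro r hr hra
      refine ⟨act_of_dvd_idx hr (hx ▸ hra), ?_⟩
      by_cases hrt : r = t
      · exact hrt ▸ hcase (hrt ▸ hra)
      · exact hinD (act_of_dvd_idx hr (hx ▸ hra)) hrt
    obtain ⟨r₀, hr₀, hr₀a⟩ := Nat.exists_prime_and_dvd (show a ≠ 1 by have := S.h1; omega)
    refine hns (isSolvable_of_index hr₀ C[x] hnil fun r hr hrd => ?_)
    change r ∣ idx x at hrd
    rw [hx] at hrd
    obtain ⟨h1, h2⟩ := hpi r hr hrd
    obtain ⟨h3, h4⟩ := hpi r₀ hr₀ hr₀a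
    exact huniq h1 h3 hrd hr₀a h2 h4

end Div

end CfsgLib.FgsD.ThreeSizes
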