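import Cfsg.Agent.Lib.CharApps.ClassSizes.Four
import Cfsg.Agent.Lib.FT.OddOrderTheorem

/-!
# A fixed-point-free pair of modules

A group `X` acts on an `r`-module `V` so that elements of order prime to `r` fix nothing and
elements of order `r` have trivial norms, and on a module `W` so that `r`-elements fix nothing and
some element of order `q` has trivial norm. If `r`-elements and `r'`-elements never commute, this
is impossible.
-/

set_option autoImplicit false
set_option linter.style.haveILetI false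
set_option linter.unusedSectionVars false

namespace CfsgLib.FgsD.ThreeSizes

open CfsgLib.CharApps.ClassSizes

variable {X : Type*} [Group X] [Finite X] {V : Type*} [CommGroup V]

/-- An element of prime order with trivial norms normalises no subgroup of coprime order acting
without fixed points, if it centralises none of its nontrivial elements. -/
theorem not_normalise {l : ℕ} (hl : l.Prime) (ρ : X →* MulAut V) (hV : ∀ v : V, ∃ n, v ^ l ^ n = 1)
    (hV0 : ∃ v : V, v ≠ 1) {x : X} (hx : orderOf x = l)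
    (hnorm : ∀ v, ∏ i ∈ Finset.range l, ρ (x ^ i) v = 1)
    {Y : Subgroup X} (hY : Y ≠ ⊥) (hxY : ∀ y ∈ Y, x * y * x⁻¹ ∈ Y) (hcop : ¬ l ∣ Nat.card Y)
    (hC : ∀ i : ℕ, ¬ l ∣ i → ∀ y ∈ Y, Commute y (x ^ i) → y = 1)
    (hfix : ∀ y ∈ Y, y ≠ 1 → ∀ v, ρ y v = v → v = 1) : False := by
  classical
  obtain ⟨v, hv⟩ := hV0
  haveI : Fintype Y := Fintype.ofFinite Y
  -- the norm of every conjugate of `x` by `Y` is trivial
  have hconj : ∀ z : Y, ∏ i ∈ Finset.range l, ρ ((z : X) * x ^ i * (z : X)⁻¹) v = 1 := by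
    intro z
    have h := hnorm ((ρ (z : X)⁻¹) v)
    have h2 := congrArg (ρ (z : X)) h
    rw [map_prod, map_one] at h2
    refine Eq.trans (Finset.prod_congr rfl fun i _ => ?_) h2
    simp [map_mul, MulAut.mul_apply]
  have hall : ∏ z : Y, ∏ i ∈ Finset.range l, ρ ((z : X) * x ^ i * (z : X)⁻¹) v = 1 :=
    Finset.prod_eq_one fun z _ => hconj z
  rw [Finset.prod_comm] at hall
  obtain ⟨l', rfl⟩ : ∃ l', l = l' + 1 := ⟨l - 1, by have := hl.one_lt; omega⟩
  rw [Finset.prod_range_succ'] at hall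
  have hY' : ∀ u : V, ∏ w : Y, ρ (w : X) u = 1 := by
    intro u
    haveI := (Subgroup.nontrivial_iff_ne_bot Y).2 hY
    obtain ⟨⟨y, hy⟩, hy1⟩ := exists_ne (1 : Y)
    refine hfix y hy (fun h => hy1 (Subtype.ext h)) _ ?_
    rw [map_prod]
    refine Fintype.prod_equiv (Equiv.mulLeft (⟨y, hy⟩ : Y)) _ _ fun w => ?_
    simp [map_mul, MulAut.mul_apply]
  have hterm : ∀ i ∈ Finset.range l', ∏ z : Y, ρ ((z : X) * x ^ (i + 1) * (z : X)⁻¹) v = 1 := by
    intro i hi
    have hni : ¬ (l' + 1) ∣ (i + 1) := fun hd => by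
      have := Nat.le_of_dvd (Nat.succ_pos i) hd
      have := Finset.mem_range.1 hi
      omega
    have hxj : ∀ j : ℕ, ∀ y ∈ Y, x ^ j * y * (x ^ j)⁻¹ ∈ Y := by
      intro j
      induction j with
      | zero => intro y hy; simpa using hy
      | succ j ih =>
        intro y hy
        have h := hxY _ (ih y hy)
        rw [pow_succ']
        simpa [mul_assoc] using h
    let φ : Y → Y := fun z => ⟨(z : X) * (x ^ (i + 1) * (z : X)⁻¹ * (x ^ (i + 1))⁻¹),
      mul_mem z.2 (hxj _ _ (inv_mem z.2))⟩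
    have hφ : Function.Bijective φ := by
      refine Finite.injective_iff_bijective.1 fun z z' hzz => ?_
      have h := congrArg Subtype.val hzz
      simp only [φ] at h
      have h' : (z : X) * x ^ (i + 1) * (z : X)⁻¹ = (z' : X) * x ^ (i + 1) * (z' : X)⁻¹ := by
        have h2 := congrArg (· * x ^ (i + 1)) h
        simpa [mul_assoc] using h2
      have h'' := hC _ hni ((z' : X)⁻¹ * z) (mul_mem (inv_mem z'.2) z.2) (by
        show (z' : X)⁻¹ * z * x ^ (i + 1) = x ^ (i + 1) * ((z' : X)⁻¹ * z)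
        calc (z' : X)⁻¹ * z * x ^ (i + 1)
            = (z' : X)⁻¹ * ((z : X) * x ^ (i + 1) * (z : X)⁻¹) * z := by group
          _ = (z' : X)⁻¹ * ((z' : X) * x ^ (i + 1) * (z' : X)⁻¹) * z := by rw [h']
          _ = _ := by group)
      exact Subtype.ext (inv_mul_eq_one.1 h'').symm
    refine Eq.trans ?_ (hY' (ρ (x ^ (i + 1)) v))
    refine Fintype.prod_bijective φ hφ _ _ fun z => ?_
    rw [← MulAut.mul_apply, ← map_mul]
    congr 2
    simp only [φ]
    group
  rw [Finset.prod_eq_one hterm, one_mul] at hall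
  have hpow : v ^ Nat.card Y = 1 := by
    rw [Nat.card_eq_fintype_card]
    simpa [Finset.prod_const] using hall
  obtain ⟨n, hn⟩ := hV v
  refine hv ?_
  have h1 := orderOf_dvd_of_pow_eq_one hn
  have h2 := orderOf_dvd_of_pow_eq_one hpow
  exact orderOf_eq_one_iff.1 (Nat.eq_one_of_dvd_coprimes
    ((hl.coprime_iff_not_dvd.2 hcop).pow_left n) h1 h2)

omit [Finite X] in
/-- A nontrivial solvable group has a nontrivial normal abelian subgroup. -/
theorem exists_normal_abelian [Group.IsSolvable X] [Nontrivial X] :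
    ∃ M : Subgroup X, M.Normal ∧ M ≠ ⊥ ∧ ∀ a ∈ M, ∀ b ∈ M, Commute a b := by
  classical
  obtain ⟨n, hn⟩ := (Group.isSolvable_def X).1 inferInstance
  have hex : ∃ n, derivedSeries X n = ⊥ := ⟨n, hn⟩
  have h0 : Nat.find hex ≠ 0 := by
    intro h
    have := Nat.find_spec hex
    rw [h, derivedSeries_zero] at this
    exact bot_ne_top this.symm
  obtain ⟨m, hm⟩ := Nat.exists_eq_succ_of_ne_zero h0
  refine ⟨derivedSeries X m, derivedSeries_normal X m,
    Nat.find_min hex (by omega), fun a ha b hb => ?_⟩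
  have hspec := Nat.find_spec hex
  rw [hm, derivedSeries_succ, Subgroup.commutator_eq_bot_iff_le_centralizer] at hspec
  exact (Subgroup.mem_centralizer_iff.1 (hspec ha) b hb).symm

theorem exists_normal_pGroup [Group.IsSolvable X] [Nontrivial X] :
    ∃ l : ℕ, l.Prime ∧ ∃ M : Subgroup X, M.Normal ∧ M ≠ ⊥ ∧ ∀ a ∈ M, a ^ l = 1 := by
  obtain ⟨M, hMn, hM, hab⟩ := exists_normal_abelian (X := X)
  haveI := (Subgroup.nontrivial_iff_ne_bot M).2 hM
  obtain ⟨⟨m, hm⟩, hm1⟩ := exists_ne (1 : M)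
  have hmo : orderOf m ≠ 1 := fun h => hm1 (Subtype.ext (orderOf_eq_one_iff.1 h))
  obtain ⟨l, hl, hd⟩ := Nat.exists_prime_and_dvd hmo
  let M' : Subgroup X :=
    { carrier := {a | a ∈ M ∧ a ^ l = 1}
      one_mem' := ⟨one_mem M, one_pow l⟩
      mul_mem' := fun ha hb => ⟨mul_mem ha.1 hb.1,
        by rw [(hab _ ha.1 _ hb.1).mul_pow, ha.2, hb.2, one_mul]⟩
      inv_mem' := fun ha => ⟨inv_mem ha.1, by rw [inv_pow, ha.2, inv_one]⟩ }
  refine ⟨l, hl, M', ⟨fun a ha g => ⟨hMn.conj_mem a ha.1 g, by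
    rw [conj_pow, ha.2, mul_one, mul_inv_cancel]⟩⟩, fun hbot => ?_, fun a ha => ha.2⟩
  have hmem : m ^ (orderOf m / l) ∈ M' := ⟨pow_mem hm _, by
    rw [← pow_mul, Nat.div_mul_cancel hd, pow_orderOf_eq_one]⟩
  rw [hbot, Subgroup.mem_bot] at hmem
  have h1 := Nat.le_of_dvd (Nat.div_pos (Nat.le_of_dvd (orderOf_pos m) hd) hl.pos)
    (orderOf_dvd_of_pow_eq_one hmem)
  exact absurd h1 (not_le.2 (Nat.div_lt_self (orderOf_pos m) hl.one_lt))

theorem isPEl_of_pow {l : ℕ} (hl : l.Prime) {a : X} {n : ℕ} (h : a ^ l ^ n = 1) : IsPEl l a :=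
  IsPEl.of_dvd hl (orderOf_dvd_of_pow_eq_one h)

theorem not_dvd_card {l r : ℕ} (hl : l.Prime) (hr : r.Prime) (hne : l ≠ r) {M : Subgroup X}
    (hM : ∀ a ∈ M, IsPEl r a) : ¬ l ∣ Nat.card M := by
  intro hd
  haveI := Fact.mk hl
  obtain ⟨a, ha⟩ := exists_prime_orderOf_dvd_card' l hd
  rw [← Subgroup.orderOf_coe] at ha
  obtain ⟨e, he⟩ := hM a a.2
  rw [ha] at he
  exact hne ((Nat.prime_dvd_prime_iff_eq hl hr).1 (hl.dvd_of_dvd_pow (dvd_of_eq he)))

variable {W : Type*} [CommGroup W]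

/-- The configuration is impossible. -/
theorem abstract_key {r q : ℕ} (hr : r.Prime) (hq : q.Prime) (hrq : r ≠ q)
    (ρ : X →* MulAut V) (σ : X →* MulAut W)
    (hV : ∀ v : V, ∃ n, v ^ r ^ n = 1) (hW : ∀ w : W, ∃ n, w ^ q ^ n = 1)
    (hV0 : ∃ v : V, v ≠ 1) (hW0 : ∃ w : W, w ≠ 1)
    (p1 : ∀ x : X, (orderOf x).Coprime r → x ≠ 1 → ∀ v, ρ x v = v → v = 1)
    (p2 : ∀ x : X, IsPEl r x → x ≠ 1 → ∀ w, σ x w = w → w = 1)
    (p3 : ∀ x : X, orderOf x = r → ∀ v, ∏ i ∈ Finset.range r, ρ (x ^ i) v = 1)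
    (c1 : ∀ x y : X, IsPEl r x → x ≠ 1 → (orderOf y).Coprime r → y ≠ 1 → ¬ Commute x y)
    {x y : X} (hx : orderOf x = r) (hy : orderOf y = q)
    (p4 : ∀ w, ∏ i ∈ Finset.range q, σ (y ^ i) w = 1) : False := by
  haveI := Fact.mk hr
  haveI := Fact.mk hq
  have hx1 : x ≠ 1 := fun h => hr.ne_one (by rw [← hx, h, orderOf_one])
  have hy1 : y ≠ 1 := fun h => hq.ne_one (by rw [← hy, h, orderOf_one])
  have hxr : IsPEl r x := ⟨1, by rw [hx, pow_one]⟩
  have hyr : (orderOf y).Coprime r := by rw [hy]; exact (Nat.coprime_primes hq hr).2 hrq.symm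
  -- powers
  have hxi : ∀ i : ℕ, ¬ r ∣ i → IsPEl r (x ^ i) ∧ x ^ i ≠ 1 := fun i hi =>
    ⟨IsPEl.of_dvd hr (k := 1) (by rw [pow_one, ← hx]; exact orderOf_pow_dvd' x i),
      fun h => hi (hx ▸ orderOf_dvd_of_pow_eq_one h)⟩
  have hyi : ∀ i : ℕ, ¬ q ∣ i → (orderOf (y ^ i)).Coprime r ∧ y ^ i ≠ 1 := fun i hi =>
    ⟨hyr.coprime_dvd_left (orderOf_pow_dvd' y i),
      fun h => hi (hy ▸ orderOf_dvd_of_pow_eq_one h)⟩
  -- `y` normalises no nontrivial `r`-subgroup
  have hUr : ∀ M : Subgroup X, M.Normal → (∀ a ∈ M, IsPEl r a) → M = ⊥ := by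
    intro M hn hM
    by_contra hne
    refine not_normalise hq σ hW hW0 hy p4 hne (fun a ha => hn.conj_mem a ha y)
      (not_dvd_card hq hr hrq.symm hM) (fun i hi a ha hc => ?_)
      (fun a ha ha1 => p2 a (hM a ha) ha1)
    by_contra ha1
    exact c1 a (y ^ i) (hM a ha) ha1 (hyi i hi).1 (hyi i hi).2 hc
  -- the action on `V` is faithful
  have hker : ρ.ker = ⊥ := by
    refine hUr _ inferInstance fun a ha => ?_
    obtain ⟨a₁, ha₁, a₂, ha₂, hmul, h1, h2, -⟩ := exists_parts hr a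
    obtain rfl : a₂ = 1 := by
      by_contra ha21
      obtain ⟨v, hv⟩ := hV0
      refine hv (p1 a₂ h2 ha21 v ?_)
      obtain ⟨j, rfl⟩ := Subgroup.mem_zpowers_iff.1 ha₂
      rw [map_zpow, MonoidHom.mem_ker.1 ha, one_zpow, MulAut.one_apply]
    rwa [← hmul, mul_one]
  -- `X` has odd order
  have hodd : Odd (Nat.card X) := by
    rw [Nat.odd_iff, ← Nat.two_dvd_ne_zero]
    intro hd
    obtain ⟨t, ht⟩ := exists_prime_orderOf_dvd_card' 2 hd
    have ht1 : t ≠ 1 := fun h => by rw [h, orderOf_one] at ht; omega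
    have ht2 : t ^ 2 = 1 := by rw [← ht, pow_orderOf_eq_one]
    have hinv : ∀ v, ρ t v = v⁻¹ := by
      intro v
      rw [eq_inv_iff_mul_eq_one]
      by_cases h2 : r = 2
      · subst h2
        have h := p3 t ht v
        simp only [Finset.prod_range_succ, Finset.prod_range_zero, pow_zero, pow_one, map_one,
          MulAut.one_apply, one_mul] at h
        rwa [mul_comm]
      · refine p1 t (by rw [ht]; exact (Nat.coprime_primes Nat.prime_two hr).2 (Ne.symm h2)) ht1 _ ?_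
        rw [map_mul, ← MulAut.mul_apply, ← map_mul, ← pow_two, ht2, map_one, MulAut.one_apply,
          mul_comm]
    have hcen : ∀ a : X, Commute t a := by
      intro a
      have h : (t * a)⁻¹ * (a * t) ∈ ρ.ker := by
        rw [MonoidHom.mem_ker, map_mul, map_inv, inv_mul_eq_one]
        ext v
        simp only [map_mul, MulAut.mul_apply, hinv, map_inv]
      rw [hker, Subgroup.mem_bot, inv_mul_eq_one] at h
      exact h
    by_cases h2 : r = 2
    · exact c1 t y ⟨1, by rw [ht, h2, pow_one]⟩ ht1 hyr hy1 (hcen y)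
    · exact c1 x t hxr hx1 (by rw [ht]; exact (Nat.coprime_primes Nat.prime_two hr).2 (Ne.symm h2))
        ht1 (hcen x).symm
  haveI := CfsgLib.FT.isSolvable_of_odd hodd
  haveI : Nontrivial X := ⟨x, 1, hx1⟩
  obtain ⟨l, hl, M, hMn, hM, hMl⟩ := exists_normal_pGroup (X := X)
  have hMp : ∀ a ∈ M, IsPEl l a := fun a ha => isPEl_of_pow hl (n := 1) (by rw [pow_one]; exact hMl a ha)
  by_cases hlr : l = r
  · exact hM (hUr M hMn (hlr ▸ hMp))
  refine not_normalise hr ρ hV hV0 hx (p3 x hx) hM (fun a ha => hMn.conj_mem a ha x)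
    (not_dvd_card hr hl (Ne.symm hlr) hMp) (fun i hi a ha hc => ?_)
    (fun a ha ha1 => p1 a ((hMp a ha).coprime_orderOf hl hr hlr) ha1)
  by_contra ha1
  exact c1 (x ^ i) a (hxi i hi).1 (hxi i hi).2 ((hMp a ha).coprime_orderOf hl hr hlr) ha1 hc.symm

end CfsgLib.FgsD.ThreeSizes
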