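import Cfsg.Agent.Lib.FgsD.ThreeSizes.Tools
import Cfsg.Agent.Lib.FgsD.ThreeSizes.KeyAbstract

/-!
# The key lemma

Two primes cannot both divide `|N : C|` when `C ≤ N` centralises an `r`-subgroup `A` and a
`q`-subgroup `B` normalised by `N`, elements of `N` outside `C` centralise no noncentral element
of `A`, and suitable elements centralise none of `B`.
-/

set_option autoImplicit false
set_option linter.style.haveILetI false
set_option linter.unusedSectionVars false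

namespace CfsgLib.FgsD.ThreeSizes

open CfsgLib.CharApps.ClassSizes
open scoped commutatorElement

variable {G : Type*} [Group G]

local notation "Z" => Subgroup.center G

theorem comm_mul_center {h v c : G} (hc : c ∈ Z) :
    h * (v * c) * h⁻¹ = h * v * h⁻¹ * c := by
  calc h * (v * c) * h⁻¹ = h * v * (c * h⁻¹) := by group
    _ = h * v * (h⁻¹ * c) := by rw [(comm_of_mem_center hc h⁻¹).eq]
    _ = _ := by group

variable [Finite G]

/-- An element of order prime to `r` fixing an element of an `r`-group modulo the centre fixes it. -/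
theorem commute_of_fix_mod {r : ℕ} (hr : r.Prime) {A : Subgroup G} (hA : IsPGroup r A) {e v : G}
    (hco : (orderOf e).Coprime r) (hv : v ∈ A) (he : e * v * e⁻¹ ∈ A)
    (hmod : e * v * e⁻¹ * v⁻¹ ∈ Z) : Commute e v := by
  haveI := Fact.mk hr
  obtain ⟨k, hk⟩ := FgsB.exists_orderOf_eq_pow_of_mem hA (mul_mem he (inv_mem hv))
  refine commute_of_conj_eq_mul (c := e * v * e⁻¹ * v⁻¹) (comm_of_mem_center hmod e) ?_ (by group)
  rw [hk]
  exact hco.pow_right k

/-- An `r`-element normalising an `r`-subgroup not in the centre fixes one of its noncentral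
elements modulo the centre. -/
theorem exists_fix_mod {r : ℕ} (hr : r.Prime) {A : Subgroup G} (hA : IsPGroup r A)
    (hA0 : ∃ v ∈ A, v ∉ Z) {h : G} (hh : IsPEl r h)
    (hn : h ∈ Subgroup.normalizer (A : Set G)) :
    ∃ v ∈ A, v ∉ Z ∧ h * v * h⁻¹ * v⁻¹ ∈ Z := by
  classical
  haveI := Fact.mk hr
  obtain ⟨a, ha, haZ⟩ := hA0
  obtain ⟨e, he⟩ := hh
  have hp : IsPGroup r ↥(Subgroup.zpowers h ⊔ A) :=
    IsPGroup.to_sup_of_normal_right' (IsPGroup.of_card (n := e) (by rw [Nat.card_zpowers, he])) hA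
      (Subgroup.zpowers_le.2 hn)
  set P := Subgroup.zpowers h ⊔ A with hP
  haveI : Group.IsNilpotent P := hp.isNilpotent
  obtain ⟨n, hlast⟩ := Subgroup.nilpotent_iff_lowerCentralSeries.1 (inferInstance : Group.IsNilpotent P)
  let f : G → G := fun v => h * v * h⁻¹ * v⁻¹
  have hfA : ∀ v ∈ A, f v ∈ A := fun v hv =>
    mul_mem ((Subgroup.mem_normalizer_iff.1 hn v).1 hv) (inv_mem hv)
  have hit : ∀ i, f^[i] a ∈ A ∧
      f^[i] a ∈ (Subgroup.lowerCentralSeries (⊤ : Subgroup P) i).map P.subtype := by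
    intro i
    induction i with
    | zero =>
      refine ⟨ha, ?_⟩
      rw [Subgroup.lowerCentralSeries_zero, ← MonoidHom.range_eq_map, Subgroup.range_subtype]
      exact Subgroup.mem_sup_right ha
    | succ i ih =>
      rw [Function.iterate_succ_apply']
      obtain ⟨hA', w, hw, hwe⟩ := ih
      refine ⟨hfA _ hA', ?_⟩
      let hP' : P := ⟨h, Subgroup.mem_sup_left (Subgroup.mem_zpowers h)⟩
      refine ⟨(⁅w, hP'⁆)⁻¹, inv_mem ?_, ?_⟩
      · rw [Subgroup.lowerCentralSeries_succ]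
        exact Subgroup.commutator_mem_commutator hw (Subgroup.mem_top _)
      · rw [map_inv, map_commutatorElement, hwe, commutatorElement_inv, commutatorElement_def]
        rfl
  have hex : ∃ i, f^[i] a ∈ Z := ⟨n, by
    have := (hit n).2
    rw [hlast, Subgroup.map_bot, Subgroup.mem_bot] at this
    rw [this]; exact one_mem _⟩
  obtain ⟨m, hm⟩ : ∃ m, Nat.find hex = m + 1 := by
    refine Nat.exists_eq_succ_of_ne_zero fun h0 => haZ ?_
    have := Nat.find_spec hex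
    rwa [h0] at this
  refine ⟨f^[m] a, (hit m).1, Nat.find_min hex (by omega), ?_⟩
  have := Nat.find_spec hex
  rwa [hm, Function.iterate_succ_apply'] at this

/-- An `r`-element and an element of order prime to `r`, both centralising no noncentral element
of an `r`-group they normalise, cannot commute modulo its centraliser. -/
theorem not_comm_mod {r : ℕ} (hr : r.Prime) {A C : Subgroup G} (hA : IsPGroup r A)
    (hA0 : ∃ v ∈ A, v ∉ Z) (hAc : ∀ v ∈ A, ∀ c ∈ C, Commute v c) {h e : G}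
    (hh : IsPEl r h) (hhA : h ∈ Subgroup.normalizer (A : Set G))
    (hhfix : ∀ v ∈ A, v ∉ Z → ¬ Commute h v)
    (heA : e ∈ Subgroup.normalizer (A : Set G)) (heo : (orderOf e).Coprime r)
    (hefix : ∀ v ∈ A, v ∉ Z → ¬ Commute e v) (hcomm : h⁻¹ * e⁻¹ * h * e ∈ C) : False := by
  obtain ⟨u, hu, huZ, huc⟩ := exists_fix_mod hr hA hA0 hh hhA
  generalize hc : h * u * h⁻¹ * u⁻¹ = c at huc
  have hhu : h * u * h⁻¹ = u * c := by
    rw [(comm_of_mem_center huc u).eq, ← hc]; group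
  have hu' : e * u * e⁻¹ ∈ A := (Subgroup.mem_normalizer_iff.1 heA u).1 hu
  generalize hk : h⁻¹ * e⁻¹ * h * e = k at hcomm
  have hku : k * u * k⁻¹ = u := by
    rw [← (hAc u hu k hcomm).eq, mul_inv_cancel_right]
  have hhu' : h * (e * u * e⁻¹) * h⁻¹ = e * u * e⁻¹ * c := by
    calc h * (e * u * e⁻¹) * h⁻¹
        = e * h * (k * u * k⁻¹) * h⁻¹ * e⁻¹ := by rw [← hk]; group
      _ = e * (h * u * h⁻¹) * e⁻¹ := by rw [hku]; group
      _ = e * (u * c) * e⁻¹ := by rw [hhu]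
      _ = _ := comm_mul_center huc
  refine hhfix (u⁻¹ * (e * u * e⁻¹)) (mul_mem (inv_mem hu) hu') (fun hz => ?_) ?_
  · refine hefix u hu huZ (commute_of_fix_mod hr hA heo hu hu' ?_)
    simpa [mul_assoc] using (inferInstance : (Z).Normal).conj_mem _ hz u
  · refine mul_inv_eq_iff_eq_mul.1 ?_
    calc h * (u⁻¹ * (e * u * e⁻¹)) * h⁻¹
        = (h * u * h⁻¹)⁻¹ * (h * (e * u * e⁻¹) * h⁻¹) := by group
      _ = (u * c)⁻¹ * (e * u * e⁻¹ * c) := by rw [hhu, hhu']
      _ = c⁻¹ * ((u⁻¹ * (e * u * e⁻¹)) * c) := by group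
      _ = _ := by rw [(comm_of_mem_center huc _).eq, inv_mul_cancel_left]

section action

variable {N C A : Subgroup G}

/-- The central elements of `A`. -/
abbrev zA (A : Subgroup G) : Subgroup A := (Z).subgroupOf A

/-- The quotient by the central elements is commutative. -/
@[reducible] noncomputable def quotComm (hab : ∀ a ∈ A, ∀ b ∈ A, Commute a b) :
    CommGroup (↥A ⧸ zA A) :=
  { (inferInstance : Group (↥A ⧸ zA A)) with
    mul_comm := fun a b => by
      obtain ⟨a, rfl⟩ := QuotientGroup.mk_surjective a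
      obtain ⟨b, rfl⟩ := QuotientGroup.mk_surjective b
      rw [← QuotientGroup.mk_mul, ← QuotientGroup.mk_mul]
      congr 1
      exact Subtype.ext (hab a a.2 b b.2).eq }

/-- Conjugation modulo the centre. -/
noncomputable def actHom (hAn : N ≤ Subgroup.normalizer (A : Set G)) :
    N →* MulAut (↥A ⧸ zA A) where
  toFun n := QuotientGroup.congr (zA A) (zA A)
    (A.normalizerMonoidHom ⟨n, hAn n.2⟩) (by
      ext a
      simp only [Subgroup.mem_map, Subgroup.mem_subgroupOf]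
      constructor
      · rintro ⟨b, hb, rfl⟩
        exact (inferInstance : (Z).Normal).conj_mem _ hb _
      · intro ha
        refine ⟨(A.normalizerMonoidHom ⟨n, hAn n.2⟩).symm a, ?_, MulEquiv.apply_symm_apply _ _⟩
        have hb := congrArg Subtype.val
          (MulEquiv.apply_symm_apply (A.normalizerMonoidHom ⟨n, hAn n.2⟩) a)
        generalize (A.normalizerMonoidHom ⟨n, hAn n.2⟩).symm a = b at hb ⊢
        change (n : G) * b * (n : G)⁻¹ = a at hb
        have h2 := (inferInstance : (Z).Normal).conj_mem' _ ha (n : G)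
        rw [← hb] at h2
        simpa [mul_assoc] using h2)
  map_one' := by
    ext a
    obtain ⟨a, rfl⟩ := QuotientGroup.mk_surjective a
    show QuotientGroup.mk _ = QuotientGroup.mk _
    congr 1
    apply Subtype.ext
    show (1 : G) * a * (1 : G)⁻¹ = a
    group
  map_mul' m n := by
    ext a
    obtain ⟨a, rfl⟩ := QuotientGroup.mk_surjective a
    show QuotientGroup.mk _ = QuotientGroup.mk _
    congr 1
    apply Subtype.ext
    show ((m : G) * n) * a * ((m : G) * n)⁻¹ = (m : G) * ((n : G) * a * (n : G)⁻¹) * (m : G)⁻¹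
    group

theorem actHom_apply (hAn : N ≤ Subgroup.normalizer (A : Set G)) (n : N) (a : A) :
    actHom hAn n (QuotientGroup.mk a) =
      QuotientGroup.mk ⟨(n : G) * a * (n : G)⁻¹, (Subgroup.mem_normalizer_iff.1 (hAn n.2) a).1 a.2⟩ :=
  rfl

theorem le_ker_actHom (hAn : N ≤ Subgroup.normalizer (A : Set G))
    (hAc : ∀ v ∈ A, ∀ c ∈ C, Commute v c) : C.subgroupOf N ≤ (actHom hAn).ker := by
  intro n hn
  rw [MonoidHom.mem_ker]
  ext a
  obtain ⟨a, rfl⟩ := QuotientGroup.mk_surjective a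
  rw [actHom_apply, MulAut.one_apply]
  congr 1
  refine Subtype.ext ?_
  show (n : G) * a * (n : G)⁻¹ = a
  rw [← (hAc a a.2 n hn).eq, mul_inv_cancel_right]

/-- A fixed coset gives an element fixed modulo the centre. -/
theorem fix_mod_of_act (hAn : N ≤ Subgroup.normalizer (A : Set G))
    (hab : ∀ a ∈ A, ∀ b ∈ A, Commute a b) {n : N} {a : A}
    (h : actHom hAn n (QuotientGroup.mk a) = QuotientGroup.mk a) :
    (n : G) * a * (n : G)⁻¹ * (a : G)⁻¹ ∈ Z := by
  rw [actHom_apply] at h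
  have h1 := QuotientGroup.eq.1 h.symm
  rw [Subgroup.mem_subgroupOf] at h1
  simp only [Subgroup.coe_mul, Subgroup.coe_inv] at h1
  rwa [(hab _ (inv_mem a.2) _ ((Subgroup.mem_normalizer_iff.1 (hAn n.2) a).1 a.2)).eq] at h1

/-- The norm of an element with a power in `C` is trivial modulo the centre. -/
theorem norm_eq_one (hAn : N ≤ Subgroup.normalizer (A : Set G))
    (hAc : ∀ v ∈ A, ∀ c ∈ C, Commute v c) (hab : ∀ a ∈ A, ∀ b ∈ A, Commute a b) (e : N) {l : ℕ}
    (hl : 0 < l) (hpow : (e : G) ^ l ∈ C) (hfix : ∀ v ∈ A, v ∉ Z → ¬ Commute (e : G) v)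
    (v : ↥A ⧸ zA A) :
    letI := quotComm hab
    ∏ i ∈ Finset.range l, actHom hAn (e ^ i) v = 1 := by
  letI := quotComm hab
  obtain ⟨a, rfl⟩ := QuotientGroup.mk_surjective v
  letI : CommGroup A :=
    { (inferInstance : Group A) with mul_comm := fun a b => Subtype.ext (hab a a.2 b b.2).eq }
  let φ : A →* A := (A.normalizerMonoidHom ⟨e, hAn e.2⟩).toMonoidHom
  let F : ℕ → A := fun i => ⟨(e : G) ^ i * a * ((e : G) ^ i)⁻¹,
    (Subgroup.mem_normalizer_iff.1 (pow_mem (hAn e.2) i) a).1 a.2⟩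
  have hstep : ∀ i, φ (F i) = F (i + 1) := fun i => Subtype.ext (by
    show (e : G) * ((e : G) ^ i * a * ((e : G) ^ i)⁻¹) * (e : G)⁻¹ = _
    show _ = (e : G) ^ (i + 1) * a * ((e : G) ^ (i + 1))⁻¹
    rw [pow_succ']; group)
  have hFl : F l = F 0 := Subtype.ext (by
    show (e : G) ^ l * a * ((e : G) ^ l)⁻¹ = (e : G) ^ 0 * a * ((e : G) ^ 0)⁻¹
    rw [pow_zero, one_mul, inv_one, mul_one, ← (hAc a a.2 _ hpow).eq, mul_inv_cancel_right])
  obtain ⟨l', rfl⟩ : ∃ l', l = l' + 1 := ⟨l - 1, by omega⟩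
  have hfx : φ (∏ i ∈ Finset.range (l' + 1), F i) = ∏ i ∈ Finset.range (l' + 1), F i := by
    rw [map_prod, Finset.prod_congr rfl (fun i _ => hstep i), Finset.prod_range_succ, hFl,
      Finset.prod_range_succ' F]
  have hmem : (∏ i ∈ Finset.range (l' + 1), F i) ∈ zA A := by
    rw [Subgroup.mem_subgroupOf]
    by_contra hnz
    exact hfix _ (SetLike.coe_mem _) hnz
      (mul_inv_eq_iff_eq_mul.1 (congrArg Subtype.val hfx :))
  have hmk : ∏ i ∈ Finset.range (l' + 1), QuotientGroup.mk' (zA A) (F i) = 1 := by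
    rw [← map_prod]
    exact (QuotientGroup.eq_one_iff _).2 hmem
  refine Eq.trans (Finset.prod_congr rfl fun i _ => ?_) hmk
  rw [actHom_apply]
  rfl

end action

/-- Elements of prime power order, or of order prime to `l`, lift along a surjection. -/
theorem exists_lift {H K : Type*} [Group H] [Finite H] [Group K] (f : H →* K)
    (hf : Function.Surjective f) {l : ℕ} (hl : l.Prime) (x : K) :
    (IsPEl l x → ∃ e : H, f e = x ∧ IsPEl l e) ∧
    ((orderOf x).Coprime l → ∃ e : H, f e = x ∧ (orderOf e).Coprime l) := by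
  obtain ⟨h, rfl⟩ := hf x
  obtain ⟨a, -, b, -, hab, ha, hb, hc⟩ := exists_parts hl h
  have hma : IsPEl l (f a) := by
    obtain ⟨i, hi⟩ := ha
    exact IsPEl.of_dvd hl (k := i) (hi ▸ orderOf_map_dvd f a)
  have hmb : (orderOf (f b)).Coprime l := hb.coprime_dvd_left (orderOf_map_dvd f b)
  have hfc : Commute (f a) (f b) := hc.map f
  refine ⟨fun hx => ⟨a, ?_, ha⟩, fun hx => ⟨b, ?_, hb⟩⟩
  · have h1 : f b = (f a)⁻¹ * f h := by rw [← hab, map_mul, inv_mul_cancel_left]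
    have hcomm : Commute (f a)⁻¹ (f h) := by
      rw [← hab, map_mul]
      exact ((Commute.refl _).mul_right hfc).inv_left
    have h2 := IsPEl.eq_one (h1 ▸ IsPEl.mul hl hma.inv hx hcomm) hmb
    rw [← hab, map_mul, h2, mul_one]
  · have h1 : f a = f h * (f b)⁻¹ := by rw [← hab, map_mul, mul_inv_cancel_right]
    have hcomm : Commute (f h) (f b)⁻¹ := by
      rw [← hab, map_mul]
      exact (hfc.mul_left (Commute.refl _)).inv_right
    have h2 : f a = 1 := IsPEl.eq_one hma (by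
      rw [h1]
      exact Nat.Coprime.coprime_dvd_left hcomm.orderOf_mul_dvd_mul_orderOf
        (Nat.Coprime.mul_left hx (by rwa [orderOf_inv])))
    rw [← hab, map_mul, h2, one_mul]

/-- The key lemma. -/
theorem key {r q : ℕ} (hr : r.Prime) (hq : q.Prime) (hrq : r ≠ q) {N C A B : Subgroup G}
    (hnC : N ≤ Subgroup.normalizer (C : Set G)) (hAC : A ≤ C) (hBC : B ≤ C)
    (hAc : ∀ v ∈ A, ∀ c ∈ C, Commute v c) (hBc : ∀ v ∈ B, ∀ c ∈ C, Commute v c)
    (hAn : N ≤ Subgroup.normalizer (A : Set G)) (hBn : N ≤ Subgroup.normalizer (B : Set G))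
    (hAp : IsPGroup r A) (hBp : IsPGroup q B)
    (hA0 : ∃ v ∈ A, v ∉ Z) (hB0 : ∃ v ∈ B, v ∉ Z)
    (hAf : ∀ e ∈ N, ∀ v ∈ A, v ∉ Z → Commute e v → e ∈ C)
    (hBf : ∀ e ∈ N, IsPEl r e → ∀ v ∈ B, v ∉ Z → Commute e v → e ∈ C)
    {g : G} (hgN : g ∈ N) (hg : IsPEl r g) (hgC : g ∉ C)
    {y : G} (hyN : y ∈ N) (hy : IsPEl q y) (hyC : y ∉ C)
    (hyf : ∀ e ∈ Subgroup.zpowers y, e ∉ C → ∀ v ∈ B, v ∉ Z → ¬ Commute e v) : False := by
  classical
  haveI := Fact.mk hr
  haveI := Fact.mk hq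
  have habA : ∀ a ∈ A, ∀ b ∈ A, Commute a b := fun a ha b hb => hAc a ha b (hAC hb)
  have habB : ∀ a ∈ B, ∀ b ∈ B, Commute a b := fun a ha b hb => hBc a ha b (hBC hb)
  letI := quotComm habA
  letI := quotComm habB
  haveI hCn : (C.subgroupOf N).Normal := Subgroup.normal_subgroupOf_of_le_normalizer hnC
  let ρ : ↥N ⧸ C.subgroupOf N →* MulAut (↥A ⧸ zA A) :=
    QuotientGroup.lift _ (actHom hAn) (le_ker_actHom hAn hAc)
  let σ : ↥N ⧸ C.subgroupOf N →* MulAut (↥B ⧸ zA B) :=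
    QuotientGroup.lift _ (actHom hBn) (le_ker_actHom hBn hBc)
  have hne : ∀ {e : N}, (QuotientGroup.mk e : ↥N ⧸ C.subgroupOf N) ≠ 1 → (e : G) ∉ C :=
    fun h he => h ((QuotientGroup.eq_one_iff _).2 (Subgroup.mem_subgroupOf.2 he))
  -- lifting elements of prime power order and elements of order prime to `r`
  have lift : ∀ (l : ℕ), l.Prime → ∀ x : ↥N ⧸ C.subgroupOf N,
      (IsPEl l x → ∃ e : N, QuotientGroup.mk e = x ∧ IsPEl l (e : G)) ∧
      ((orderOf x).Coprime l → ∃ e : N, QuotientGroup.mk e = x ∧ (orderOf (e : G)).Coprime l) := by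
    intro l hl x
    have h := exists_lift (QuotientGroup.mk' (C.subgroupOf N)) (QuotientGroup.mk'_surjective _) hl x
    refine ⟨fun hx => ?_, fun hx => ?_⟩
    · obtain ⟨e, he, i, hi⟩ := h.1 hx
      exact ⟨e, he, i, by rw [Subgroup.orderOf_coe, hi]⟩
    · obtain ⟨e, he, hi⟩ := h.2 hx
      exact ⟨e, he, by rwa [Subgroup.orderOf_coe]⟩
  have hVp : ∀ v : ↥A ⧸ zA A, ∃ n, v ^ r ^ n = 1 := hAp.to_quotient (zA A)
  have hWp : ∀ v : ↥B ⧸ zA B, ∃ n, v ^ q ^ n = 1 := hBp.to_quotient (zA B)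
  have hV0 : ∃ v : ↥A ⧸ zA A, v ≠ 1 := by
    obtain ⟨v, hv, hvZ⟩ := hA0
    exact ⟨QuotientGroup.mk ⟨v, hv⟩, fun h => hvZ (Subgroup.mem_subgroupOf.1 ((QuotientGroup.eq_one_iff _).1 h) :)⟩
  have hW0 : ∃ v : ↥B ⧸ zA B, v ≠ 1 := by
    obtain ⟨v, hv, hvZ⟩ := hB0
    exact ⟨QuotientGroup.mk ⟨v, hv⟩, fun h => hvZ (Subgroup.mem_subgroupOf.1 ((QuotientGroup.eq_one_iff _).1 h) :)⟩
  have p1 : ∀ x, (orderOf x).Coprime r → x ≠ 1 → ∀ v, ρ x v = v → v = 1 := by
    intro x hx hx1 v hv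
    obtain ⟨e, rfl, he⟩ := (lift r hr x).2 hx
    obtain ⟨a, rfl⟩ := QuotientGroup.mk_surjective v
    by_contra hne1
    have haZ : (a : G) ∉ Z := fun h => hne1 ((QuotientGroup.eq_one_iff _).2 (Subgroup.mem_subgroupOf.2 h))
    have hm := fix_mod_of_act hAn habA hv
    exact hne hx1 (hAf e e.2 a a.2 haZ (commute_of_fix_mod hr hAp he a.2
      ((Subgroup.mem_normalizer_iff.1 (hAn e.2) a).1 a.2) hm))
  have p2 : ∀ x, IsPEl r x → x ≠ 1 → ∀ w, σ x w = w → w = 1 := by
    intro x hx hx1 v hv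
    obtain ⟨e, rfl, he⟩ := (lift r hr x).1 hx
    obtain ⟨a, rfl⟩ := QuotientGroup.mk_surjective v
    by_contra hne1
    have haZ : (a : G) ∉ Z := fun h => hne1 ((QuotientGroup.eq_one_iff _).2 (Subgroup.mem_subgroupOf.2 h))
    have hm := fix_mod_of_act hBn habB hv
    exact hne hx1 (hBf e e.2 he a a.2 haZ (commute_of_fix_mod hq hBp
      (he.coprime_orderOf hr hq hrq) a.2 ((Subgroup.mem_normalizer_iff.1 (hBn e.2) a).1 a.2) hm))
  have hpowC : ∀ (e : N) (n : ℕ), orderOf (QuotientGroup.mk e : ↥N ⧸ C.subgroupOf N) = n →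
      (e : G) ^ n ∈ C := by
    intro e n hn
    have := pow_orderOf_eq_one (QuotientGroup.mk e : ↥N ⧸ C.subgroupOf N)
    rw [hn, ← QuotientGroup.mk_pow, QuotientGroup.eq_one_iff, Subgroup.mem_subgroupOf] at this
    simpa using this
  have p3 : ∀ x, orderOf x = r → ∀ v, ∏ i ∈ Finset.range r, ρ (x ^ i) v = 1 := by
    intro x hx v
    obtain ⟨e, rfl, -⟩ := (lift r hr x).1 ⟨1, by rw [hx, pow_one]⟩
    have hx1 : (QuotientGroup.mk e : ↥N ⧸ C.subgroupOf N) ≠ 1 := fun h => hr.ne_one (by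
      rw [← hx, h, orderOf_one])
    have h := norm_eq_one hAn hAc habA e hr.pos (hpowC e r hx)
      (fun w hw hwZ hc => hne hx1 (hAf e e.2 w hw hwZ hc)) v
    exact Eq.trans (Finset.prod_congr rfl fun i _ => rfl) h
  have c1 : ∀ a b : ↥N ⧸ C.subgroupOf N, IsPEl r a → a ≠ 1 → (orderOf b).Coprime r → b ≠ 1 → ¬ Commute a b := by
    intro a b ha ha1 hb hb1 hab
    obtain ⟨h, rfl, hh⟩ := (lift r hr a).1 ha
    obtain ⟨e, rfl, he⟩ := (lift r hr b).2 hb
    refine not_comm_mod hr hAp hA0 hAc hh (hAn h.2)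
      (fun v hv hvZ hc => hne ha1 (hAf h h.2 v hv hvZ hc)) (hAn e.2) he
      (fun v hv hvZ hc => hne hb1 (hAf e e.2 v hv hvZ hc)) ?_
    have h1 : (QuotientGroup.mk (h⁻¹ * e⁻¹ * h * e) : ↥N ⧸ C.subgroupOf N) = 1 := by
      simp only [QuotientGroup.mk_mul, QuotientGroup.mk_inv]
      calc _ = (QuotientGroup.mk h : ↥N ⧸ C.subgroupOf N)⁻¹ * (QuotientGroup.mk e)⁻¹ *
              (QuotientGroup.mk h * QuotientGroup.mk e) := by group
        _ = _ := by rw [hab.eq]; group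
    have h2 := Subgroup.mem_subgroupOf.1 ((QuotientGroup.eq_one_iff _).1 h1)
    simpa using h2
  -- the elements of prime order
  have hpow : ∀ (l : ℕ), l.Prime → ∀ e : N, IsPEl l (e : G) → (e : G) ∉ C →
      ∃ k : ℕ, orderOf (QuotientGroup.mk (e ^ k) : ↥N ⧸ C.subgroupOf N) = l := by
    intro l hl e he he1
    obtain ⟨i, hi⟩ := he
    have hd : orderOf (QuotientGroup.mk e : ↥N ⧸ C.subgroupOf N) ∣ l ^ i := by
      rw [← hi, Subgroup.orderOf_coe]
      exact orderOf_map_dvd (QuotientGroup.mk' (C.subgroupOf N)) e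
    obtain ⟨j, -, hj⟩ := (Nat.dvd_prime_pow hl).1 hd
    rcases j with _ | j
    · rw [pow_zero, orderOf_eq_one_iff, QuotientGroup.eq_one_iff, Subgroup.mem_subgroupOf] at hj
      exact absurd hj he1
    · refine ⟨l ^ j, ?_⟩
      rw [QuotientGroup.mk_pow, orderOf_pow, hj, pow_succ, Nat.gcd_mul_right_left,
        Nat.mul_div_cancel_left _ (pow_pos hl.pos j)]
  obtain ⟨kg, hkg⟩ := hpow r hr ⟨g, hgN⟩ hg hgC
  obtain ⟨ky, hky⟩ := hpow q hq ⟨y, hyN⟩ hy hyC
  have p4 : ∀ w, ∏ i ∈ Finset.range q,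
      σ ((QuotientGroup.mk ((⟨y, hyN⟩ : N) ^ ky) : ↥N ⧸ C.subgroupOf N) ^ i) w = 1 := by
    intro w
    have hy1 : (QuotientGroup.mk ((⟨y, hyN⟩ : N) ^ ky) : ↥N ⧸ C.subgroupOf N) ≠ 1 := fun h =>
      hq.ne_one (by rw [← hky, h, orderOf_one])
    have h := norm_eq_one hBn hBc habB ((⟨y, hyN⟩ : N) ^ ky) hq.pos (hpowC _ q hky)
      (fun v hv hvZ hc => hyf _ (Subgroup.mem_zpowers_iff.2 ⟨ky, by simp⟩) (hne hy1) v hv hvZ hc) w
    exact Eq.trans (Finset.prod_congr rfl fun i _ => rfl) h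
  exact abstract_key hr hq hrq ρ σ hVp hWp hV0 hW0 p1 p2 p3 c1 hkg hky p4

end CfsgLib.FgsD.ThreeSizes
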