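import Cfsg.Agent.Lib.FgsD.ThreeSizes.Key

/-!
# Two class sizes, neither dividing the other: basic facts
-/

set_option autoImplicit false
set_option linter.style.haveILetI false
set_option linter.unusedSectionVars false

namespace CfsgLib.FgsD.ThreeSizes

open CfsgLib.CharApps.ClassSizes

variable {G : Type*} [Group G] [Finite G]

local notation "C[" g "]" => Subgroup.centralizer ({g} : Set G)
local notation "Z" => Subgroup.center G

/-- Noncentral class sizes: two, neither dividing the other. -/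
structure NonDiv (G : Type*) [Group G] (a b : ℕ) : Prop where
  hab : ¬ a ∣ b
  hba : ¬ b ∣ a
  h : ∀ g : G, g ∉ Subgroup.center G → idx g = a ∨ idx g = b
  hexa : ∃ g : G, idx g = a ∧ g ∉ Subgroup.center G
  hexb : ∃ g : G, idx g = b ∧ g ∉ Subgroup.center G

/-- The centraliser of `g` has noncentral `p`-elements. -/
def Has (g : G) (p : ℕ) : Prop := fp (Subgroup.center G) p < fp C[g] p

theorem has_self {p : ℕ} (hp : p.Prime) {u : G} (hu : IsPEl p u) (huZ : u ∉ Z) : Has u p :=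
  fact_lt_of_noncentral hp (center_le_C u) hu (self_mem_C u) huZ

theorem has_of_idx {g h : G} (he : idx g = idx h) {p : ℕ} (hp : Has g p) : Has h p := by
  unfold Has at *
  rwa [← fp_eq_of_idx he p]

theorem Has.prime {g : G} {p : ℕ} (h : Has g p) : p.Prime := by
  by_contra hp
  have h0 : fp C[g] p = 0 := Nat.factorization_eq_zero_of_not_prime _ hp
  unfold Has at h
  omega

theorem Has.exists_mem {g : G} {p : ℕ} (h : Has g p) : ∃ u ∈ C[g], IsPEl p u ∧ u ∉ Z :=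
  exists_noncentral_of_fact_lt h.prime h

theorem Has.act {g : G} {p : ℕ} (h : Has g p) : Act G p := by
  obtain ⟨u, -, hu, huZ⟩ := h.exists_mem
  exact ⟨h.prime, u, hu, huZ⟩

/-- Two primes in a centraliser. -/
def Mixed (g : G) : Prop := ∃ p q : ℕ, p ≠ q ∧ Has g p ∧ Has g q

theorem mixed_of_idx {g h : G} (he : idx g = idx h) : Mixed g → Mixed h :=
  fun ⟨p, q, hpq, hp, hq⟩ => ⟨p, q, hpq, has_of_idx he hp, has_of_idx he hq⟩

theorem Mixed.exists_odd {g : G} (h : Mixed g) : ∃ f, f ≠ 2 ∧ Has g f := by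
  obtain ⟨p, q, hpq, hp, hq⟩ := h
  by_cases h2 : p = 2
  · exact ⟨q, fun h => hpq (h2.trans h.symm), hq⟩
  · exact ⟨p, h2, hp⟩

theorem Has.dvd_relIndex {g : G} {p : ℕ} (h : Has g p) : p ∣ (Z).relIndex C[g] := by
  obtain ⟨u, hu, hup, huZ⟩ := h.exists_mem
  by_contra hnd
  obtain ⟨e, he⟩ := hup
  refine huZ (mem_center_of_pow (k := (Z).relIndex C[g]) ?_ ?_)
  · exact Subgroup.mem_subgroupOf.1 (Subgroup.pow_index_mem ((Z).subgroupOf C[g]) ⟨u, hu⟩)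
  · rw [he]
    exact ((h.prime.coprime_iff_not_dvd.2 hnd).symm).pow_right e

theorem Mixed.three_le {g : G} (h : Mixed g) :
    3 * Nat.card ↥(Z) ≤ Nat.card ↥(C[g]) := by
  obtain ⟨f, hf2, hf⟩ := h.exists_odd
  have h1 : Nat.card ↥(Z) * (Z).relIndex C[g] = Nat.card ↥(C[g]) := by
    rw [← Subgroup.relIndex_bot_left, ← Subgroup.relIndex_bot_left C[g],
      Subgroup.relIndex_mul_relIndex _ _ _ bot_le (center_le_C g)]
  have h2 : f ≤ (Z).relIndex C[g] :=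
    Nat.le_of_dvd (Nat.pos_of_ne_zero Subgroup.index_ne_zero_of_finite) hf.dvd_relIndex
  have := hf.prime.two_le
  rw [← h1, mul_comm]
  exact Nat.mul_le_mul_left _ (by omega)

/-- An element with a power in a subgroup has a last power outside it. -/
theorem exists_last {K : Subgroup G} {n : G} (hn : IsPEl 2 n) (hnK : n ∉ K) :
    ∃ τ ∈ Subgroup.zpowers n, IsPEl 2 τ ∧ τ ∉ K ∧ τ * τ ∈ K := by
  classical
  obtain ⟨e, he⟩ := hn
  have hex : ∃ j, n ^ 2 ^ j ∈ K := ⟨e, by rw [← he, pow_orderOf_eq_one]; exact one_mem K⟩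
  obtain ⟨m, hm⟩ : ∃ m, Nat.find hex = m + 1 := by
    refine Nat.exists_eq_succ_of_ne_zero fun h0 => hnK ?_
    have := Nat.find_spec hex
    rwa [h0, pow_zero, pow_one] at this
  refine ⟨n ^ 2 ^ m, ⟨((2 ^ m : ℕ) : ℤ), zpow_natCast n _⟩, ?_, Nat.find_min hex (by omega), ?_⟩
  · exact IsPEl.of_dvd Nat.prime_two (k := e) (he ▸ orderOf_pow_dvd' n _)
  · have := Nat.find_spec hex
    rw [hm, pow_succ', mul_comm, pow_mul] at this
    rwa [← pow_two]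

theorem C_eq_of_conj_mul_center {x i c : G} (hc : c ∈ Z) (h : x * i * x⁻¹ = i * c) :
    x ∈ Subgroup.normalizer (C[i] : Set G) :=
  mem_normalizer_of_C_eq (by rw [h, C_eq_of_mul_center hc])

theorem odd_part_mem {K : Subgroup G} {b : G} (hb : (orderOf b).Coprime 2) (h : b * b ∈ K) :
    b ∈ K := by
  obtain ⟨j, hj⟩ := exists_pow_eq_self_of_coprime (x := b) (n := 2) hb.symm
  rw [← hj]
  exact pow_mem (by rwa [pow_two]) j

namespace NonDiv

variable {a b : ℕ} (S : NonDiv G a b)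
include S

theorem symm : NonDiv G b a := ⟨S.hba, S.hab, fun g hg => (S.h g hg).symm, S.hexb, S.hexa⟩

theorem C_eq {g h : G} (hle : C[g] ≤ C[h]) (hg : g ∉ Z) (hh : h ∉ Z) : C[g] = C[h] := by
  refine C_eq_of_le_of_idx hle ?_
  have hd := idx_dvd_of_le hle
  rcases S.h g hg with h1 | h1 <;> rcases S.h h hh with h2 | h2 <;> rw [h1, h2] at hd ⊢
  · exact absurd hd S.hba
  · exact absurd hd S.hab

theorem eq_primary {g : G} (hg : g ∉ Z) :
    ∃ p : ℕ, ∃ u : G, p.Prime ∧ IsPEl p u ∧ u ∉ Z ∧ C[g] = C[u] := by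
  obtain ⟨p, u, hp, hu, huZ, hle, -⟩ := exists_primary hg
  exact ⟨p, u, hp, hu, huZ, S.C_eq hle hg huZ⟩

theorem abelian {g : G} (hg : g ∉ Z) (hm : Mixed g) :
    ∀ c ∈ C[g], ∀ d ∈ C[g], Commute c d := by
  obtain ⟨p, u, hp, hu, huZ, he⟩ := S.eq_primary hg
  obtain ⟨q, hqp, hq⟩ : ∃ q, q ≠ p ∧ Has g q := by
    obtain ⟨p', q', hne, h1, h2⟩ := hm
    by_cases h : p' = p
    · exact ⟨q', fun h' => hne (h.trans h'.symm), h2⟩
    · exact ⟨p', h, h1⟩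
  obtain ⟨v, hv, hvq, hvZ⟩ := hq.exists_mem
  rw [he] at hv ⊢
  have aux : ∀ {l m : ℕ}, l.Prime → m.Prime → l ≠ m → ∀ {x y : G}, IsPEl l x → IsPEl m y →
      x ∉ Z → y ∉ Z → Commute x y → C[x] = C[y] := by
    intro l m hl hm hlm x y hx hy hxZ hyZ hc
    have hco := IsPEl.coprime hl hm hlm hx hy
    have he := C_mul_eq hc hco
    have hn := mul_not_mem_center hc hco hxZ
    rw [← S.C_eq (he.le.trans inf_le_left) hn hxZ, S.C_eq (he.le.trans inf_le_right) hn hyZ]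
  have hvu : C[v] = C[u] := aux hq.prime hp hqp hvq hu hvZ huZ (mem_C.1 hv)
  have hcen : C[u] ≤ Subgroup.centralizer (C[u] : Set G) := by
    refine le_of_primes fun l hl _ e hee hel => Subgroup.mem_centralizer_iff.2 fun c hc => ?_
    by_cases heZ : e ∈ Z
    · exact (comm_of_mem_center heZ c).eq
    suffices h : C[e] = C[u] from (mem_C.1 (h.ge hc)).eq
    by_cases hlp : l = p
    · subst hlp
      rw [← hvu]
      exact aux hl hq.prime hqp.symm hel hvq heZ hvZ (mem_C.1 (hvu.ge hee))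
    · exact aux hl hp hlp hel hu heZ huZ (mem_C.1 hee)
  exact fun c hc d hd => Subgroup.mem_centralizer_iff.1 (hcen hd) c hc

theorem eq_of_mem {g : G} (hg : g ∉ Z) (hm : Mixed g) {u : G} (hu : u ∈ C[g]) (huZ : u ∉ Z) :
    C[u] = C[g] :=
  (S.C_eq (fun c hc => mem_C.2 (S.abelian hg hm c hc u hu)) hg huZ).symm

theorem sylow_facts {g : G} (hg : g ∉ Z) (hm : Mixed g) {r : ℕ} (hr : Has g r) :
    ∃ A, IsSylIn r A C[g] ∧
      Subgroup.normalizer (C[g] : Set G) ≤ Subgroup.normalizer (A : Set G) ∧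
      ∃ v ∈ A, v ∉ Z := by
  haveI := Fact.mk hr.prime
  obtain ⟨A, hA⟩ := exists_isSylIn r C[g]
  obtain ⟨v, hv, hvr, hvZ⟩ := hr.exists_mem
  exact ⟨A, hA, IsSylIn.normalizer_le hA (S.abelian hg hm), v,
    IsSylIn.mem_of_abelian hA (S.abelian hg hm) hvr hv, hvZ⟩

theorem exists_normaliser {g : G} (hg : g ∉ Z) (hm : Mixed g) {r : ℕ} (hr : Has g r)
    (hd : r ∣ idx g) :
    ∃ n ∈ Subgroup.normalizer (C[g] : Set G), IsPEl r n ∧ n ∉ C[g] := by
  haveI := Fact.mk hr.prime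
  obtain ⟨A, hA, -, v, hv, hvZ⟩ := S.sylow_facts hg hm hr
  obtain ⟨n, -, hn, hnC, hnA⟩ := IsSylIn.exists_normalizing hA le_top (by
    unfold fp
    rw [Subgroup.card_top]
    exact fp_lt_of_dvd_idx hr.prime hd)
  refine ⟨n, ?_, hn, hnC⟩
  rw [← S.eq_of_mem hg hm (hA.le hv) hvZ]
  exact mem_normalizer_of_C_eq ((S.eq_of_mem hg hm (hA.le ((Subgroup.mem_normalizer_iff.1 hnA v).1 hv))
    (fun h => hvZ (mem_center_conj.1 h))).trans (S.eq_of_mem hg hm (hA.le hv) hvZ).symm)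

theorem at_most_one {g : G} (hg : g ∉ Z) (hm : Mixed g) {r q : ℕ} (hr : Has g r) (hq : Has g q)
    (hrd : r ∣ idx g) (hqd : q ∣ idx g) : r = q := by
  by_contra hne
  haveI := Fact.mk hr.prime
  haveI := Fact.mk hq.prime
  have hab := S.abelian hg hm
  obtain ⟨A, hA, hAn, hA0⟩ := S.sylow_facts hg hm hr
  obtain ⟨B, hB, hBn, hB0⟩ := S.sylow_facts hg hm hq
  obtain ⟨n, hnN, hn, hnC⟩ := S.exists_normaliser hg hm hr hrd
  obtain ⟨y, hyN, hy, hyC⟩ := S.exists_normaliser hg hm hq hqd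
  have hf : ∀ D : Subgroup G, D ≤ C[g] → ∀ e : G, ∀ v ∈ D, v ∉ Z → Commute e v → e ∈ C[g] :=
    fun D hD e v hv hvZ hc => by rw [← S.eq_of_mem hg hm (hD hv) hvZ]; exact mem_C.2 hc
  exact key hr.prime hq.prime hne (N := Subgroup.normalizer (C[g] : Set G)) (C := C[g]) le_rfl
    hA.le hB.le (fun v hv => hab v (hA.le hv)) (fun v hv => hab v (hB.le hv)) hAn hBn
    hA.isPGroup hB.isPGroup hA0 hB0 (fun e _ => hf A hA.le e) (fun e _ _ => hf B hB.le e)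
    hnN hn hnC hyN hy hyC (fun e _ heC v hv hvZ hc => heC (hf B hB.le e v hv hvZ hc))

theorem exists_full {g : G} (hg : g ∉ Z) (hm : Mixed g) : ∃ f, Has g f ∧ ¬ f ∣ idx g := by
  by_contra hcon
  push Not at hcon
  obtain ⟨p, q, hpq, hp, hq⟩ := hm
  exact hpq (S.at_most_one hg ⟨p, q, hpq, hp, hq⟩ hp hq (hcon p hp) (hcon q hq))

/-- The abelian centralisers of one index are conjugate. -/
theorem conj_class {g g' : G} (hg : g ∉ Z) (hg' : g' ∉ Z) (hm : Mixed g) (he : idx g' = idx g) :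
    ∃ h : G, C[g'] = C[h * g * h⁻¹] := by
  obtain ⟨f, hf, hfd⟩ := S.exists_full hg hm
  obtain ⟨u, hu, ⟨e, hue⟩, huZ⟩ := (has_of_idx he.symm hf).exists_mem
  obtain ⟨h, hh⟩ := CharApps.ClassSizes.exists_conj_mem (H := C[g]) hf.prime hue hfd
  have hZ' : h⁻¹ * u * h ∉ Z := fun hz => huZ (by
    simpa using mem_center_conj.1 (show h⁻¹ * u * h⁻¹⁻¹ ∈ Z by rwa [inv_inv]))
  refine ⟨h, ?_⟩
  rw [← S.eq_of_mem hg' (mixed_of_idx he.symm hm) hu huZ]
  ext c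
  rw [C_conj, ← S.eq_of_mem hg hm hh hZ', show h⁻¹ * u * h = h⁻¹ * u * h⁻¹⁻¹ by rw [inv_inv],
    C_conj, inv_inv]
  rw [show h * (h⁻¹ * c * h) * h⁻¹ = c by group]

/-- An element of the normaliser squaring into the centraliser inverts it modulo the centre. -/
theorem inverts {g : G} (hg : g ∉ Z) (hm : Mixed g) {τ : G}
    (hτ : τ ∈ Subgroup.normalizer (C[g] : Set G)) (hτC : τ ∉ C[g]) (hτ2 : τ * τ ∈ C[g])
    {k : G} (hk : k ∈ C[g]) : τ * k * τ⁻¹ * k ∈ Z := by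
  have hab := S.abelian hg hm
  have hk' : τ * k * τ⁻¹ ∈ C[g] := (Subgroup.mem_normalizer_iff.1 hτ k).1 hk
  by_contra hz
  refine hτC ?_
  rw [← S.eq_of_mem hg hm (mul_mem hk' hk) hz]
  refine mem_C.2 (mul_inv_eq_iff_eq_mul.1 ?_)
  calc τ * (τ * k * τ⁻¹ * k) * τ⁻¹ = τ * τ * k * (τ * τ)⁻¹ * (τ * k * τ⁻¹) := by group
    _ = k * (τ * k * τ⁻¹) := by rw [(hab _ hτ2 k hk).eq, mul_inv_cancel_right]
    _ = _ := (hab k hk _ hk').eq

/-- An element of the normaliser fixing the centraliser modulo the centre lies in it. -/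
theorem mem_of_fix {g : G} (hg : g ∉ Z) (hm : Mixed g) {z : G}
    (hz : z ∈ Subgroup.normalizer (C[g] : Set G))
    (hfix : ∀ k ∈ C[g], z * k * z⁻¹ * k⁻¹ ∈ Z) : z ∈ C[g] := by
  have hab := S.abelian hg hm
  obtain ⟨f, hf, hfd⟩ := S.exists_full hg hm
  haveI := Fact.mk hf.prime
  obtain ⟨A, hA, hAn, v, hv, hvZ⟩ := S.sylow_facts hg hm hf
  obtain ⟨z₁, hz₁, z₂, hz₂, hzz, hz₁f, hz₂o, -⟩ := exists_parts hf.prime z
  have hAtop : IsSylIn f A ⊤ := hA.of_eq le_top (by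
    rw [Subgroup.card_top]; exact fp_eq_of_not_dvd_idx hfd)
  have hz₁K : z₁ ∈ C[g] := hA.le (IsSylIn.mem_of_normalizes hAtop hz₁f (Subgroup.mem_top _)
    (hAn (Subgroup.zpowers_le.2 hz hz₁)))
  have hz₂N := Subgroup.zpowers_le.2 hz hz₂
  have hv2 : z₂ * v * z₂⁻¹ ∈ A := (Subgroup.mem_normalizer_iff.1 (hAn hz₂N) v).1 hv
  have hfx := hfix v (hA.le hv)
  have e : z * v * z⁻¹ = z₂ * v * z₂⁻¹ := by
    rw [← hzz]
    calc z₁ * z₂ * v * (z₁ * z₂)⁻¹ = z₁ * (z₂ * v * z₂⁻¹) * z₁⁻¹ := by group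
      _ = _ := by rw [(hab z₁ hz₁K _ (hA.le hv2)).eq, mul_inv_cancel_right]
  rw [e] at hfx
  have hcm := commute_of_fix_mod hf.prime hA.isPGroup hz₂o hv hv2 hfx
  rw [← hzz]
  exact mul_mem hz₁K (by rw [← S.eq_of_mem hg hm (hA.le hv) hvZ]; exact mem_C.2 hcm)

theorem inv_mem_coset {g : G} (hg : g ∉ Z) (hm : Mixed g) {τ τ' : G}
    (hτ : τ ∈ Subgroup.normalizer (C[g] : Set G)) (hτC : τ ∉ C[g]) (hτ2 : τ * τ ∈ C[g])
    (hτ' : τ' ∈ Subgroup.normalizer (C[g] : Set G)) (hτ'C : τ' ∉ C[g]) (hτ'2 : τ' * τ' ∈ C[g]) :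
    τ⁻¹ * τ' ∈ C[g] := by
  refine S.mem_of_fix hg hm (mul_mem (inv_mem hτ) hτ') fun k hk => ?_
  have h1 := S.inverts hg hm hτ' hτ'C hτ'2 hk
  have h2 := S.inverts hg hm hτ hτC hτ2 hk
  generalize hc : τ' * k * τ'⁻¹ * k = c at h1
  generalize hd : τ * k * τ⁻¹ * k = d at h2
  have e1 : τ' * k * τ'⁻¹ = c * k⁻¹ := by rw [← hc]; group
  have e2 : τ⁻¹ * k⁻¹ * τ = k * d⁻¹ := by
    have : τ * k * τ⁻¹ = d * k⁻¹ := by rw [← hd]; group
    calc τ⁻¹ * k⁻¹ * τ = τ⁻¹ * (d⁻¹ * (d * k⁻¹)) * τ := by group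
      _ = τ⁻¹ * (d⁻¹ * (τ * k * τ⁻¹)) * τ := by rw [this]
      _ = τ⁻¹ * (τ * k * τ⁻¹ * d⁻¹) * τ := by rw [← (comm_of_mem_center (inv_mem h2) _).eq]
      _ = k * τ⁻¹ * (d⁻¹ * τ) := by group
      _ = k * τ⁻¹ * (τ * d⁻¹) := by rw [(comm_of_mem_center (inv_mem h2) τ).eq]
      _ = _ := by group
  have e3 : τ⁻¹ * τ' * k * (τ⁻¹ * τ')⁻¹ * k⁻¹ = c * d⁻¹ := by
    calc τ⁻¹ * τ' * k * (τ⁻¹ * τ')⁻¹ * k⁻¹ = τ⁻¹ * (τ' * k * τ'⁻¹) * τ * k⁻¹ := by group
      _ = τ⁻¹ * c * k⁻¹ * τ * k⁻¹ := by rw [e1]; group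
      _ = c * (τ⁻¹ * k⁻¹ * τ) * k⁻¹ := by rw [(comm_of_mem_center h1 τ⁻¹).eq]; group
      _ = c * (k * d⁻¹ * k⁻¹) := by rw [e2]; group
      _ = c * d⁻¹ := by rw [(comm_of_mem_center (inv_mem h2) k).eq, mul_inv_cancel_right]
  rw [e3]
  exact mul_mem h1 (inv_mem h2)

/-- An involution modulo the centraliser commutes with the normaliser modulo it. -/
theorem commutator_mem {g : G} (hg : g ∉ Z) (hm : Mixed g) {τ n : G}
    (hτ : τ ∈ Subgroup.normalizer (C[g] : Set G)) (hτC : τ ∉ C[g]) (hτ2 : τ * τ ∈ C[g])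
    (hn : n ∈ Subgroup.normalizer (C[g] : Set G)) : τ⁻¹ * (n * τ * n⁻¹) ∈ C[g] := by
  refine S.inv_mem_coset hg hm hτ hτC hτ2 (mul_mem (mul_mem hn hτ) (inv_mem hn))
    (fun h => hτC ((Subgroup.mem_normalizer_iff.1 hn τ).2 h)) ?_
  rw [show n * τ * n⁻¹ * (n * τ * n⁻¹) = n * (τ * τ) * n⁻¹ by group]
  exact (Subgroup.mem_normalizer_iff.1 hn _).1 hτ2

/-- An involution modulo an abelian centraliser excludes odd elements outside it whose prime, or
`2`, has elements inside. -/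
theorem no_involution {g : G} (hg : g ∉ Z) (hm : Mixed g) {τ n : G}
    (hτ : τ ∈ Subgroup.normalizer (C[g] : Set G)) (hτC : τ ∉ C[g]) (hτ2 : τ * τ ∈ C[g])
    (hτp : IsPEl 2 τ) {l : ℕ} (hl : l.Prime) (hl2 : l ≠ 2)
    (hn : n ∈ Subgroup.normalizer (C[g] : Set G)) (hnC : n ∉ C[g]) (hnl : IsPEl l n)
    (hH : Has g l ∨ Has g 2) : False := by
  haveI := Fact.mk hl
  have hab := S.abelian hg hm
  have hcomm := S.commutator_mem hg hm hτ hτC hτ2 hn
  have hfix : ∀ {D : Subgroup G}, D ≤ C[g] → ∀ e ∉ C[g], ∀ v ∈ D, v ∉ Z → ¬ Commute e v :=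
    fun hD e he v hv hvZ hc => he (by rw [← S.eq_of_mem hg hm (hD hv) hvZ]; exact mem_C.2 hc)
  rcases hH with hH | hH
  · obtain ⟨A, hA, hAn, hA0⟩ := S.sylow_facts hg hm hH
    refine not_comm_mod hl hA.isPGroup hA0 (C := C[g]) (fun v hv => hab v (hA.le hv)) hnl (hAn hn)
      (hfix hA.le n hnC) (hAn hτ) (hτp.coprime_orderOf Nat.prime_two hl hl2.symm) (hfix hA.le τ hτC) ?_
    have h2 := (Subgroup.mem_normalizer_iff''.1 hn _).1 (inv_mem hcomm)
    simpa [mul_assoc] using inv_mem h2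
  · obtain ⟨A, hA, hAn, hA0⟩ := S.sylow_facts hg hm hH
    refine not_comm_mod Nat.prime_two hA.isPGroup hA0 (C := C[g]) (fun v hv => hab v (hA.le hv)) hτp
      (hAn hτ) (hfix hA.le τ hτC) (hAn hn) (hnl.coprime_orderOf hl Nat.prime_two hl2)
      (hfix hA.le n hnC) ?_
    have h2 := (Subgroup.mem_normalizer_iff''.1 hn _).1 hcomm
    simpa [mul_assoc] using inv_mem h2

end NonDiv

end CfsgLib.FgsD.ThreeSizes
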