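import Cfsg.Agent.Lib.CharApps.ClassSizes.Four
import Cfsg.Agent.Lib.Chars.Burnside
import Cfsg.Agent.Lib.Fusion.SylowAux
import Cfsg.Agent.Lib.Base.HallConverse
import Cfsg.Agent.Lib.FgsB.ClassPrimes
import Cfsg.Agent.Lib.FgsB.Basic
import Cfsg.Agent.Lib.SolvStruct.KegelWielandt.General
import Cfsg.Agent.Lib.FT.OddOrderTheorem

/-!
# Tools for groups with three class sizes
-/

set_option autoImplicit false
set_option linter.style.haveILetI false
set_option linter.unusedSectionVars false

open scoped Pointwise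

namespace CfsgLib.FgsD.ThreeSizes

open CfsgLib.CharApps.ClassSizes

variable {G : Type*} [Group G]

local notation "C[" g "]" => Subgroup.centralizer ({g} : Set G)
local notation "Z" => Subgroup.center G

/-- The prime `p` has noncentral elements. -/
def Act (G : Type*) [Group G] (p : ℕ) : Prop :=
  p.Prime ∧ ∃ u : G, IsPEl p u ∧ u ∉ Subgroup.center G

/-- The exponent of `p` in the order of a subgroup. -/
noncomputable abbrev fp (H : Subgroup G) (p : ℕ) : ℕ := (Nat.card H).factorization p

theorem mem_center_iff_commute {v : G} : v ∈ Z ↔ ∀ g : G, Commute g v :=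
  Subgroup.mem_center_iff

theorem comm_of_mem_center {v : G} (hv : v ∈ Z) (g : G) : Commute g v :=
  Subgroup.mem_center_iff.1 hv g

theorem C_conj (h u : G) {c : G} : c ∈ C[h * u * h⁻¹] ↔ h⁻¹ * c * h ∈ C[u] := by
  rw [mem_C, mem_C]
  constructor
  · intro hc
    simpa [mul_assoc] using hc.map (MulAut.conj h⁻¹)
  · intro hc
    simpa [mul_assoc] using hc.map (MulAut.conj h)

theorem mem_normalizer_of_C_eq {g e : G} (h : C[g * e * g⁻¹] = C[e]) :
    g ∈ Subgroup.normalizer (C[e] : Set G) := mem_normalizer_C h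

theorem C_conj_eq_of_mem_normalizer {g e : G} (h : g ∈ Subgroup.normalizer (C[e] : Set G)) :
    C[g * e * g⁻¹] = C[e] := by
  ext c
  rw [C_conj]
  exact (Subgroup.mem_normalizer_iff''.1 h c).symm

theorem C_le_C_mul_iff {u v : G} (h : C[u] ≤ C[v]) {c : G} (hc : c ∈ C[u]) : Commute c v :=
  mem_C.1 (h hc)

theorem IsPEl.ne_of {p q : ℕ} (hp : p.Prime) (hq : q.Prime) {u : G} (hu : IsPEl p u)
    (hu' : IsPEl q u) (h1 : u ≠ 1) : p = q := by
  by_contra hne
  obtain ⟨a, ha⟩ := hu
  obtain ⟨b, hb⟩ := hu'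
  refine h1 (orderOf_eq_one_iff.1 (Nat.eq_one_of_dvd_coprimes
    (Nat.coprime_pow_primes a b hp hq hne) (dvd_of_eq ha) (dvd_of_eq hb)))

theorem ne_prime_of_noncentral {p q : ℕ} (hp : p.Prime) {u : G} (hu : IsPEl p u)
    (huZ : u ∉ Z) (hq : q.Prime) (hu' : IsPEl q u) : p = q :=
  IsPEl.ne_of hp hq hu hu' fun h => huZ (h ▸ one_mem _)

/-- The product of two commuting elements of coprime order is noncentral if one of them is. -/
theorem mul_not_mem_center {u v : G} (hc : Commute u v) (ho : (orderOf u).Coprime (orderOf v))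
    (hu : u ∉ Z) : u * v ∉ Z := by
  intro h
  refine hu ?_
  rw [← C_eq_top_iff] at h ⊢
  rw [C_mul_eq hc ho] at h
  exact eq_top_iff.2 (h.symm.le.trans inf_le_left)

variable [Finite G]

/-- A noncentral element has a noncentral prime power part. -/
theorem exists_primary {g : G} (hg : g ∉ Z) :
    ∃ p : ℕ, ∃ u : G, p.Prime ∧ IsPEl p u ∧ u ∉ Z ∧ C[g] ≤ C[u] ∧ Commute u g := by
  obtain ⟨q, k, e, hq, he, hz⟩ := exists_noncentral_primary hg
  exact ⟨q, g ^ k, hq, ⟨e, he⟩, hz, C_le_C_pow g k, (Commute.refl g).pow_left k⟩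

theorem fp_le {H K : Subgroup G} (h : H ≤ K) (p : ℕ) : fp H p ≤ fp K p :=
  (Nat.factorization_le_iff_dvd Nat.card_pos.ne' Nat.card_pos.ne').2 (Subgroup.card_dvd_of_le h) p

theorem fp_eq_of_idx {g h : G} (he : idx g = idx h) (p : ℕ) : fp C[g] p = fp C[h] p := by
  have h1 := fact_card_add_fact_idx g p
  have h2 := fact_card_add_fact_idx h p
  rw [he] at h1
  change fp C[g] p + _ = _ at h1
  change fp C[h] p + _ = _ at h2
  omega

theorem fp_le_of_dvd {g h : G} (he : idx g ∣ idx h) (p : ℕ) : fp C[h] p ≤ fp C[g] p := by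
  have h1 := fact_card_add_fact_idx g p
  have h2 := fact_card_add_fact_idx h p
  have h3 := (Nat.factorization_le_iff_dvd (idx_pos g).ne' (idx_pos h).ne').2 he p
  change fp C[g] p + _ = _ at h1
  change fp C[h] p + _ = _ at h2
  omega

theorem fp_lt_of_dvd_idx {g : G} {p : ℕ} (hp : p.Prime) (hd : p ∣ idx g) :
    fp C[g] p < (Nat.card G).factorization p := by
  have h1 := fact_card_add_fact_idx g p
  have h2 := (hp.dvd_iff_one_le_factorization (idx_pos g).ne').1 hd
  change fp C[g] p + _ = _ at h1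
  omega

theorem dvd_idx_of_fp_lt {g : G} {p : ℕ} (h : fp C[g] p < (Nat.card G).factorization p) :
    p ∣ idx g := by
  have h1 := fact_card_add_fact_idx g p
  change fp C[g] p + _ = _ at h1
  exact Nat.dvd_of_factorization_pos (by omega)

theorem fp_eq_of_not_dvd_idx {g : G} {p : ℕ} (h : ¬ p ∣ idx g) :
    fp C[g] p = (Nat.card G).factorization p := by
  have h1 := fact_card_add_fact_idx g p
  change fp C[g] p + _ = _ at h1
  rw [Nat.factorization_eq_zero_of_not_dvd h] at h1
  omega

/-- If a prime has noncentral elements, it divides some class size. -/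
theorem exists_dvd_idx {p : ℕ} (h : Act G p) : ∃ g : G, p ∣ idx g := by
  haveI := Fact.mk h.1
  by_contra hc
  push Not at hc
  obtain ⟨P⟩ : Nonempty (Sylow p G) := inferInstance
  have htop := FgsB.eq_top_of_forall_exists_conj_mem
    (H := Subgroup.centralizer ((P : Subgroup G) : Set G))
    fun x => FgsB.ClassPrimes.exists_conj_mem_centralizer P (hc x)
  obtain ⟨hp, u, ⟨e, he⟩, huZ⟩ := h
  obtain ⟨g, hg⟩ := CharApps.ClassSizes.exists_conj_mem (H := (P : Subgroup G)) hp he P.not_dvd_index
  refine huZ ?_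
  have h2 : g⁻¹ * u * g ∈ Z := by
    refine Subgroup.mem_center_iff.2 fun c => ?_
    have := Subgroup.mem_centralizer_iff.1 (htop ▸ Subgroup.mem_top c :) _ hg
    exact this.symm
  simpa using mem_center_conj.1 (show g⁻¹ * u * g⁻¹⁻¹ ∈ Z by rwa [inv_inv])

theorem act_of_dvd_index {p : ℕ} (hp : p.Prime) (h : p ∣ (Z).index) : Act G p := by
  have h1 : fp Z p < fp (⊤ : Subgroup G) p := by
    show (Nat.card ↥(Z)).factorization p < (Nat.card ↥(⊤ : Subgroup G)).factorization p
    rw [Subgroup.card_top, ← (Z).card_mul_index,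
      Nat.factorization_mul Nat.card_pos.ne' Subgroup.index_ne_zero_of_finite, Finsupp.add_apply]
    have := (hp.dvd_iff_one_le_factorization Subgroup.index_ne_zero_of_finite).1 h
    omega
  obtain ⟨u, -, hu, huZ⟩ := exists_noncentral_of_fact_lt hp h1
  exact ⟨hp, u, hu, huZ⟩

theorem act_of_dvd_idx {p : ℕ} (hp : p.Prime) {g : G} (h : p ∣ idx g) : Act G p :=
  act_of_dvd_index hp (h.trans (Subgroup.index_dvd_of_le (center_le_C g)))

theorem isSolvable_of_center_quotient (h : Group.IsSolvable (G ⧸ Z)) : Group.IsSolvable G :=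
  Base.isSolvable_of_normal Z
    (Group.isSolvable_of_comm fun a b => Subtype.ext (Subgroup.mem_center_iff.1 b.2 a)) h

/-- At most two primes with noncentral elements: solvable. -/
theorem isSolvable_of_two {p q : ℕ} (h : ∀ r, Act G r → r = p ∨ r = q) : Group.IsSolvable G := by
  refine isSolvable_of_center_quotient (Chars.isSolvable_of_primeFactors_pair p q fun r hr hd => ?_)
  exact h r (act_of_dvd_index hr (by rwa [Subgroup.index_eq_card]))

/-- The Sylow `2`-subgroups are central: solvable. -/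
theorem isSolvable_of_not_act_two (h : ¬ Act G 2) : Group.IsSolvable G := by
  refine isSolvable_of_center_quotient (FT.isSolvable_of_odd ?_)
  rw [← Subgroup.index_eq_card, Nat.odd_iff, ← Nat.two_dvd_ne_zero]
  exact fun hd => h (act_of_dvd_index Nat.prime_two hd)

/-- A nilpotent subgroup of prime power index: solvable. -/
theorem isSolvable_of_index {p : ℕ} (hp : p.Prime) (C : Subgroup G) (hC : Group.IsNilpotent C)
    (h : ∀ r : ℕ, r.Prime → r ∣ C.index → r = p) : Group.IsSolvable G := by
  haveI := Fact.mk hp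
  obtain ⟨P⟩ : Nonempty (Sylow p G) := inferInstance
  have hPn : Group.IsNilpotent (P : Subgroup G) := P.2.isNilpotent
  have hi : C.index = p ^ C.index.factorization p := by
    have hn : C.index ≠ 0 := Subgroup.index_ne_zero_of_finite
    refine Nat.eq_pow_of_factorization_eq_single hn ?_
    ext r
    by_cases hr : r = p
    · simp [hr]
    · rw [Finsupp.single_apply, if_neg (Ne.symm hr)]
      by_contra h0
      have h1 : r ∈ C.index.primeFactors := by
        rw [← Nat.support_factorization]; exact Finsupp.mem_support_iff.2 h0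
      exact hr (h r (Nat.prime_of_mem_primeFactors h1) (Nat.dvd_of_mem_primeFactors h1))
  have hle : C.index ≤ C.relIndex P := by
    have h1 : Nat.card ↥(C ⊓ P : Subgroup G) * C.relIndex P = Nat.card (P : Subgroup G) := by
      rw [← Subgroup.inf_relIndex_right, ← Subgroup.relIndex_bot_left,
        ← Subgroup.relIndex_bot_left (P : Subgroup G),
        Subgroup.relIndex_mul_relIndex _ _ _ bot_le inf_le_right]
    obtain ⟨i, hi'⟩ := IsPGroup.iff_card.1 (P.2.to_le (inf_le_right : C ⊓ (P : Subgroup G) ≤ P))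
    have h2 : i ≤ fp C p := (hp.pow_dvd_iff_le_factorization Nat.card_pos.ne').1
      (hi' ▸ Subgroup.card_dvd_of_le inf_le_left)
    have h3 : fp C p + C.index.factorization p = (Nat.card G).factorization p := by
      rw [← C.card_mul_index, Nat.factorization_mul Nat.card_pos.ne'
        Subgroup.index_ne_zero_of_finite, Finsupp.add_apply]
    rw [hi', P.card_eq_multiplicity, ← h3, pow_add] at h1
    rw [hi]
    have h4 : p ^ i ≤ p ^ fp C p := Nat.pow_le_pow_right hp.pos h2
    have h5 : p ^ fp C p * p ^ C.index.factorization p ≤ p ^ fp C p * C.relIndex P := by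
      rw [← h1]; exact Nat.mul_le_mul_right _ h4
    exact Nat.le_of_mul_le_mul_left h5 (pow_pos hp.pos _)
  let f : ↥(P : Subgroup G) ⧸ C.subgroupOf P → G ⧸ C :=
    Quotient.map' (fun x => (x : G)) fun x y hxy => by
      rw [QuotientGroup.leftRel_apply] at hxy ⊢
      simpa [Subgroup.mem_subgroupOf] using hxy
  have hf : Function.Injective f := by
    intro x y hxy
    induction x using Quotient.inductionOn' with
    | h x =>
      induction y using Quotient.inductionOn' with
      | h y =>
        have := Quotient.eq''.1 (show (Quotient.mk'' (x : G) : G ⧸ C) = Quotient.mk'' (y : G) from hxy)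
        rw [QuotientGroup.leftRel_apply] at this
        apply Quotient.eq''.2
        rw [QuotientGroup.leftRel_apply, Subgroup.mem_subgroupOf]
        simpa using this
  have hsurj : Function.Surjective f :=
    (hf.bijective_of_nat_card_le hle).2
  refine SolvStruct.KW.isSolvable_of_nilpotent_mul _ rfl (P : Subgroup G) C hPn hC fun g => ?_
  obtain ⟨x, hx⟩ := hsurj (QuotientGroup.mk g)
  induction x using Quotient.inductionOn' with
  | h x =>
    exact ⟨x, x.2, (x : G)⁻¹ * g,
      QuotientGroup.eq.1 (show (QuotientGroup.mk (x : G) : G ⧸ C) = QuotientGroup.mk g from hx),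
      by group⟩

theorem isNilpotent_of_comm {C : Subgroup G} (h : ∀ a ∈ C, ∀ b ∈ C, Commute a b) :
    Group.IsNilpotent C :=
  Subgroup.isNilpotent_of_ker_le_center (1 : C →* PUnit.{1})
    (fun a _ => Subgroup.mem_center_iff.2 fun b => Subtype.ext (h b b.2 a a.2).eq)

/-- A `p`-element of `H` normalising a Sylow subgroup of `H` lies in it. -/
theorem IsSylIn.mem_of_normalizes {p : ℕ} [Fact p.Prime] {S H : Subgroup G}
    (hS : IsSylIn p S H) {u : G} (hu : IsPEl p u) (huH : u ∈ H)
    (hn : u ∈ Subgroup.normalizer (S : Set G)) : u ∈ S := by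
  obtain ⟨e, he⟩ := hu
  have hup : IsPGroup p (Subgroup.zpowers u) :=
    IsPGroup.of_card (n := e) (by rw [Nat.card_zpowers, he])
  have hp2 : IsPGroup p ↥(Subgroup.zpowers u ⊔ S) :=
    IsPGroup.to_sup_of_normal_right' hup hS.isPGroup (Subgroup.zpowers_le.2 hn)
  obtain ⟨i, hi⟩ := IsPGroup.iff_card.1 hp2
  have hle : Subgroup.zpowers u ⊔ S ≤ H := sup_le (Subgroup.zpowers_le.2 huH) hS.le
  have h1 : i ≤ (Nat.card H).factorization p :=
    ((Fact.out : p.Prime).pow_dvd_iff_le_factorization Nat.card_pos.ne').1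
      (hi ▸ Subgroup.card_dvd_of_le hle)
  have h2 : S = Subgroup.zpowers u ⊔ S := Subgroup.eq_of_le_of_card_ge le_sup_right (by
    rw [hi, hS.card]; exact Nat.pow_le_pow_right (Fact.out : p.Prime).pos h1)
  rw [h2]
  exact Subgroup.mem_sup_left (Subgroup.mem_zpowers u)

/-- Normalisers grow. -/
theorem IsSylIn.exists_normalizing {p : ℕ} [Fact p.Prime] {S H M : Subgroup G}
    (hS : IsSylIn p S H) (hM : H ≤ M) (hlt : fp H p < fp M p) :
    ∃ g ∈ M, IsPEl p g ∧ g ∉ H ∧ g ∈ Subgroup.normalizer (S : Set G) := by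
  have hn : ¬ Fusion.IsSylIn p S M := by
    intro hc
    obtain ⟨T, hT⟩ := exists_isSylIn p M
    obtain ⟨b, -, hb⟩ := hc.exists_conj_le hT.isPGroup hT.le
    have h1 : T.map (MulAut.conj b).toMonoidHom ≤ S := by
      rintro _ ⟨t, ht, rfl⟩
      exact hb t ht
    have h2 := Subgroup.card_le_of_le h1
    rw [Subgroup.card_map_of_injective (MulAut.conj b).injective, hT.card, hS.card] at h2
    exact absurd h2 (not_le.2 (Nat.pow_lt_pow_right (Fact.out : p.Prime).one_lt hlt))
  obtain ⟨g, hgM, hgS, hgN, k, hk⟩ :=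
    Fusion.exists_normalizing (hS.le.trans hM) hS.isPGroup hn
  have hg : IsPEl p g := IsPEl.of_dvd Fact.out (orderOf_dvd_of_pow_eq_one hk)
  exact ⟨g, hgM, hg, fun h => hgS (IsSylIn.mem_of_normalizes hS hg h hgN), hgN⟩

/-- A Sylow subgroup contains the `p`-elements of `H` centralising it. -/
theorem IsSylIn.mem_of_commute {p : ℕ} [Fact p.Prime] {S H : Subgroup G}
    (hS : IsSylIn p S H) {u : G} (hu : IsPEl p u) (huH : u ∈ H)
    (hc : ∀ s ∈ S, Commute u s) : u ∈ S := by
  refine IsSylIn.mem_of_normalizes hS hu huH (Subgroup.mem_normalizer_fintype ?_)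
  intro s hs
  rwa [(hc s hs).eq, mul_inv_cancel_right]

/-- The `p`-elements of an abelian subgroup form its Sylow subgroup. -/
theorem IsSylIn.mem_of_abelian {p : ℕ} [Fact p.Prime] {S H : Subgroup G} (hS : IsSylIn p S H)
    (hH : ∀ a ∈ H, ∀ b ∈ H, Commute a b) {u : G} (hu : IsPEl p u) (huH : u ∈ H) : u ∈ S :=
  IsSylIn.mem_of_commute hS hu huH fun s hs => hH u huH s (hS.le hs)

theorem IsSylIn.isPEl {p : ℕ} [Fact p.Prime] {S H : Subgroup G} (hS : IsSylIn p S H) {u : G}
    (hu : u ∈ S) : IsPEl p u := IsPEl.of_mem hS.isPGroup hu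

/-- A normaliser of an abelian subgroup normalises its Sylow subgroups. -/
theorem IsSylIn.normalizer_le {p : ℕ} [Fact p.Prime] {S H : Subgroup G} (hS : IsSylIn p S H)
    (hH : ∀ a ∈ H, ∀ b ∈ H, Commute a b) :
    Subgroup.normalizer (H : Set G) ≤ Subgroup.normalizer (S : Set G) := fun g hg =>
  Subgroup.mem_normalizer_fintype fun s hs =>
    IsSylIn.mem_of_abelian hS hH ((IsSylIn.isPEl hS hs).conj g)
      ((Subgroup.mem_normalizer_iff.1 hg s).1 (hS.le hs))

/-- A subgroup whose `p`-part exceeds that of `D` has a `p`-element outside `D`. -/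
theorem exists_pel_not_mem {p : ℕ} (hp : p.Prime) {H D : Subgroup G} (h : fp D p < fp H p) :
    ∃ u ∈ H, IsPEl p u ∧ u ∉ D := by
  haveI := Fact.mk hp
  obtain ⟨S, hS⟩ := exists_isSylIn p H
  by_contra hcon
  push Not at hcon
  have h1 := fp_le (H := S) (K := D) (fun s hs => hcon s (hS.le hs) (IsSylIn.isPEl hS hs)) p
  unfold fp at h1 h
  rw [hS.card, hp.factorization_pow, Finsupp.single_eq_same] at h1
  omega

/-- A `p`-element of `H` outside a normalised subgroup `D` shows that the `p`-parts differ. -/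
theorem fp_lt_of_not_mem {p : ℕ} (hp : p.Prime) {H D : Subgroup G} (hD : D ≤ H)
    (hn : H ≤ Subgroup.normalizer (D : Set G)) {u : G} (hu : IsPEl p u) (huH : u ∈ H)
    (huD : u ∉ D) : fp D p < fp H p := by
  have h1 : Nat.card D * D.relIndex H = Nat.card H := by
    rw [← Subgroup.relIndex_bot_left, ← Subgroup.relIndex_bot_left H,
      Subgroup.relIndex_mul_relIndex _ _ _ bot_le hD]
  have h0 : D.relIndex H ≠ 0 := Subgroup.index_ne_zero_of_finite
  haveI : (D.subgroupOf H).Normal := Subgroup.normal_subgroupOf_of_le_normalizer hn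
  have hd : p ∣ D.relIndex H := by
    by_contra hnd
    obtain ⟨e, he⟩ := hu
    have h2 : u ^ D.relIndex H ∈ D :=
      Subgroup.mem_subgroupOf.1 (Subgroup.pow_index_mem (D.subgroupOf H) ⟨u, huH⟩)
    obtain ⟨j, hj⟩ := exists_pow_eq_self_of_coprime (x := u) (n := D.relIndex H)
      (by rw [he]; exact ((hp.coprime_iff_not_dvd.2 hnd).symm).pow_right e)
    exact huD (hj ▸ pow_mem h2 j)
  unfold fp
  rw [← h1, Nat.factorization_mul Nat.card_pos.ne' h0, Finsupp.add_apply]
  have := (hp.dvd_iff_one_le_factorization h0).1 hd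
  omega

/-- If a noncentral element has class size prime to `p`, its centraliser has `p`-part above
that of the centre, whenever `p` has noncentral elements. -/
theorem fp_center_lt {p : ℕ} (hp : Act G p) {g : G} (hd : ¬ p ∣ idx g) :
    fp Z p < fp C[g] p := by
  obtain ⟨hp, u, hu, huZ⟩ := hp
  exact (fact_lt_of_noncentral hp (center_le_C u) hu (self_mem_C u) huZ).trans_le
    ((fp_le (le_top : C[u] ≤ ⊤) p).trans (by
      rw [fp_eq_of_not_dvd_idx hd]; unfold fp; rw [Subgroup.card_top]))

end CfsgLib.FgsD.ThreeSizes
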